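import Mathlib

/-!
# Binary affine groups: displacements

A group `H` of automorphisms of a finite abelian group `V` is binary if every map on a subset of `V`
which is locally given by elements of `H` on differences is given by an affine map over `H`.
-/

set_option autoImplicit false

namespace H48.BinAff

variable (H V : Type*) [Group H] [AddCommGroup V] [DistribMulAction H V]

/-- The extension property of a binary affine group. -/
def Bin : Prop :=
  ∀ (X : Set V) (f : V → V), (∀ x ∈ X, ∀ y ∈ X, ∃ g : H, g • (x - y) = f x - f y) →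
    ∃ g : H, ∃ t : V, ∀ x ∈ X, f x = g • x + t

/-- Irreducibility. -/
def Irr : Prop :=
  ∀ A : AddSubgroup V, (∀ g : H, ∀ a ∈ A, g • a ∈ A) → A = ⊥ ∨ A = ⊤

variable {H V}

/-- The displacement map of `g`. -/
def disp (g : H) : V →+ V := DistribSMul.toAddMonoidHom V g - AddMonoidHom.id V

theorem disp_apply (g : H) (x : V) : disp g x = g • x - x := rfl

/-- The displacements of `g`. -/
def im (g : H) : AddSubgroup V := (disp g).range

/-- The fixed vectors of `g`. -/
def fix (g : H) : AddSubgroup V := (disp g).ker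

theorem mem_fix {g : H} {x : V} : x ∈ fix g ↔ g • x = x := by
  rw [fix, AddMonoidHom.mem_ker, disp_apply, sub_eq_zero]

theorem mem_im {g : H} {d : V} : d ∈ im g ↔ ∃ x, g • x = x + d := by
  rw [im, AddMonoidHom.mem_range]
  simp only [disp_apply, sub_eq_iff_eq_add']

theorem smul_sub_mem_im (g : H) (x : V) : g • x - x ∈ im g :=
  mem_im.2 ⟨x, by abel⟩

theorem card_im_mul_card_fix (g : H) : Nat.card (im (V := V) g) * Nat.card (fix (V := V) g) = Nat.card V := by
  have h := AddSubgroup.card_mul_index (disp (V := V) g).ker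
  rw [AddSubgroup.index_ker, mul_comm] at h
  exact h

/-! ### Cardinalities of sums of subgroups -/

theorem card_sup {A B : AddSubgroup V} (hd : ∀ x ∈ A, x ∈ B → x = 0) :
    Nat.card (A ⊔ B : AddSubgroup V) = Nat.card A * Nat.card B := by
  rw [← Nat.card_prod]
  refine (Nat.card_congr (Equiv.ofBijective
    (fun p : A × B => (⟨p.1.1 + p.2.1, AddSubgroup.add_mem_sup p.1.2 p.2.2⟩ : (A ⊔ B : AddSubgroup V))) ⟨?_, ?_⟩)).symm
  · rintro ⟨a, b⟩ ⟨a', b'⟩ he
    have he' : a.1 + b.1 = a'.1 + b'.1 := congrArg Subtype.val he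
    have h1 : a.1 - a'.1 = b'.1 - b.1 := by
      rw [sub_eq_sub_iff_add_eq_add, he', add_comm]
    have h2 : a.1 - a'.1 = 0 := hd _ (A.sub_mem a.2 a'.2) (h1 ▸ B.sub_mem b'.2 b.2)
    have h3 : b'.1 - b.1 = 0 := h1 ▸ h2
    exact Prod.ext (Subtype.ext (sub_eq_zero.1 h2)) (Subtype.ext (sub_eq_zero.1 h3).symm)
  · rintro ⟨x, hx⟩
    obtain ⟨a, ha, b, hb, rfl⟩ := AddSubgroup.mem_sup.1 hx
    exact ⟨⟨⟨a, ha⟩, ⟨b, hb⟩⟩, rfl⟩

theorem sup_eq_top [Finite V] {A B : AddSubgroup V} (hd : ∀ x ∈ A, x ∈ B → x = 0)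
    (hc : Nat.card V ≤ Nat.card A * Nat.card B) : A ⊔ B = ⊤ :=
  AddSubgroup.eq_top_of_le_card _ (by rw [card_sup hd]; exact hc)

theorem card_mul_card_le [Finite V] {A B C : AddSubgroup V} (hA : A ≤ C) (hB : B ≤ C)
    (hd : ∀ x ∈ A, x ∈ B → x = 0) : Nat.card A * Nat.card B ≤ Nat.card C := by
  rw [← card_sup hd]
  exact AddSubgroup.card_le_of_le (sup_le hA hB)

/-! ### Common displacements -/

/-- The vectors which some element of `H` translates by `d`. -/
def Sol (H : Type*) {V : Type*} [Group H] [AddCommGroup V] [DistribMulAction H V] (d : V) : Set V :=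
  {x | ∃ g : H, g • x = x + d}

theorem exists_common (hb : Bin H V) (d : V) : ∃ u : H, ∀ x ∈ Sol H d, u • x = x + d := by
  classical
  let f : V → V := fun x => if x = 0 then 0 else x + d
  have hf : ∀ x ∈ Sol H d, f x = x + d := by
    rintro x ⟨g, hg⟩
    by_cases hx : x = 0
    · subst hx; simp [f] at hg ⊢; exact hg
    · simp [f, hx]
  obtain ⟨g, t, hgt⟩ := hb (insert 0 (Sol H d)) f (by
    rintro x (rfl | hx) y (rfl | hy)
    · exact ⟨1, by simp⟩
    · obtain ⟨g, hg⟩ := hy
      exact ⟨g, by rw [hf y ⟨g, hg⟩]; simp [f, hg, smul_neg]⟩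
    · obtain ⟨g, hg⟩ := hx
      exact ⟨g, by rw [hf x ⟨g, hg⟩]; simp [f, hg]⟩
    · exact ⟨1, by rw [one_smul, hf x hx, hf y hy]; abel⟩)
  have ht : t = 0 := by simpa [f] using (hgt 0 (Or.inl rfl)).symm
  refine ⟨g, fun x hx => ?_⟩
  rw [← hf x hx, hgt x (Or.inr hx), ht, add_zero]

/-- The chosen common translation by `d`. -/
noncomputable def com (hb : Bin H V) (d : V) : H := (exists_common hb d).choose

variable (hb : Bin H V)

theorem com_spec {d x : V} {g : H} (hg : g • x = x + d) : com hb d • x = x + d :=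
  (exists_common hb d).choose_spec x ⟨g, hg⟩

theorem inv_sol {g : H} {x d : V} (hg : g • x = x + d) : g⁻¹ • (-x - d) = (-x - d) + d := by
  rw [inv_smul_eq_iff]
  simp [smul_neg, hg]
  abel

theorem com_neg {g : H} {x d : V} (hx : g • x = x + d) : com hb d • d = -d := by
  have h1 := com_spec hb hx
  have h2 := com_spec hb (inv_sol hx)
  have e : com hb d • (x + (-x - d)) = (x + d) + (-x - d + d) := by rw [smul_add, h1, h2]
  rw [show x + (-x - d) = -d by abel, smul_neg, show (x + d) + (-x - d + d) = d by abel] at e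
  exact neg_eq_iff_eq_neg.1 e

theorem com_fix_sub {d x y : V} {g g' : H} (hx : g • x = x + d) (hy : g' • y = y + d) :
    com hb d • (x - y) = x - y := by
  rw [smul_sub, com_spec hb hx, com_spec hb hy, add_sub_add_right_eq_sub]

theorem fix_le_com {d x : V} {g : H} (hx : g • x = x + d) : fix g ≤ fix (V := V) (com hb d) := by
  intro z hz
  rw [mem_fix] at hz ⊢
  have h : g • (x + z) = (x + z) + d := by rw [smul_add, hx, hz]; abel
  simpa using com_fix_sub hb h hx

theorem conj_sol {γ g : H} {d x : V} (hγ : γ • d = d) (hg : g • x = x + d) :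
    (γ * g * γ⁻¹) • (γ • x) = γ • x + d := by
  rw [mul_smul, mul_smul, inv_smul_smul, hg, smul_add, hγ]

theorem com_fix_conj {d x : V} {γ g : H} (hγ : γ • d = d) (hg : g • x = x + d) :
    com hb d • (γ • x - x) = γ • x - x :=
  com_fix_sub hb (conj_sol hγ hg) hg

theorem com_ne_one {d x : V} {g : H} (hd : d ≠ 0) (hg : g • x = x + d) : com hb d ≠ 1 := by
  intro h
  have := com_spec hb hg
  rw [h, one_smul, left_eq_add] at this
  exact hd this

end H48.BinAff
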