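import Cfsg.Agent.H48.BinAff.Cover

/-!
# Binary affine groups: the size of a spread
-/

set_option autoImplicit false
set_option linter.unusedSectionVars false

namespace H48.BinAff

variable {H V : Type*} [Group H] [Finite H] [AddCommGroup V] [DistribMulAction H V] [FaithfulSMul H V] [Finite V]

theorem card_ne_zero (A : AddSubgroup V) : Nat.card {d : A // d ≠ 0} = Nat.card A - 1 := by
  classical
  cases nonempty_fintype A
  rw [Nat.card_eq_fintype_card, Nat.card_eq_fintype_card, Fintype.card_subtype_compl, Fintype.card_subtype_eq]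

theorem one_lt_card_im {g : H} (hg : g ≠ 1) : 1 < Nat.card (im (V := V) g) := by
  refine Finite.one_lt_card_iff_nontrivial.2 ((AddSubgroup.nontrivial_iff_ne_bot _).2 fun h0 => hg ?_)
  exact eq_one_of_fix_top fun x => sub_eq_zero.1 ((AddSubgroup.mem_bot).1 (h0 ▸ smul_sub_mem_im g x))

namespace Pair

variable {p : ℕ} {h t : H}

/-- A spread of size `q ^ 2` has `q + 1` members. -/
theorem card_mem (P : Pair V h t) (hs : Setup H V p) :
    Nat.card {x : H // Mem V h t x} = Nat.card (im (V := V) h) + 1 := by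
  have e : (Σ x : {x : H // Mem V h t x}, {d : im (V := V) x.1 // d ≠ 0}) ≃ {d : span2 V h t // d ≠ 0} := by
    refine Equiv.ofBijective (fun s => ⟨⟨s.2.1.1, s.1.2.2.2 s.2.1.2⟩, fun e0 => s.2.2 (Subtype.ext (congrArg Subtype.val e0 :))⟩) ⟨?_, ?_⟩
    · rintro ⟨⟨x, hx⟩, ⟨⟨d, hd⟩, hd0⟩⟩ ⟨⟨y, hy⟩, ⟨⟨d', hd'⟩, hd0'⟩⟩ he
      simp only [Subtype.mk.injEq] at he
      subst he
      obtain rfl : x = y := hx.1.unique hs.bin hy.1 (fun e0 => hd0 (Subtype.ext e0)) hd hd'
      rfl
    · rintro ⟨⟨d, hd⟩, hd0⟩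
      obtain ⟨u, hu, hdu⟩ := P.cover hs hd (fun e0 => hd0 (Subtype.ext e0))
      exact ⟨⟨⟨u, hu⟩, ⟨⟨d, hdu⟩, fun e0 => hd0 (Subtype.ext (congrArg Subtype.val e0 :))⟩⟩, rfl⟩
  cases nonempty_fintype {x : H // Mem V h t x}
  have h1 := Nat.card_congr e
  have h3 : ∀ x : {x : H // Mem V h t x},
      Nat.card {d : im (V := V) x.1 // d ≠ 0} = Nat.card (im (V := V) h) - 1 := fun x => by
    rw [card_ne_zero, x.2.1.card_im_eq P.hh]
  rw [Nat.card_sigma, card_ne_zero, P.card_span hs, Finset.sum_congr rfl (fun x _ => h3 x), Finset.sum_const,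
    Finset.card_univ, ← Nat.card_eq_fintype_card, smul_eq_mul] at h1
  have h2 := one_lt_card_im (V := V) P.hh.1
  obtain ⟨m, hm⟩ : ∃ m, Nat.card (im (V := V) h) = m + 2 := ⟨_, (Nat.sub_add_cancel h2).symm⟩
  rw [hm] at h1 ⊢
  have h3 : (m + 2) * (m + 2) - 1 = (m + 3) * (m + 1) := by
    have : (m + 2) * (m + 2) = (m + 3) * (m + 1) + 1 := by ring
    omega
  rw [h3, show m + 2 - 1 = m + 1 from rfl] at h1
  exact Nat.eq_of_mul_eq_mul_right (Nat.succ_pos m) h1

theorem exists_third (P : Pair V h t) (hs : Setup H V p) : ∃ x, Mem V h t x ∧ x ≠ h ∧ x ≠ t := by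
  classical
  by_contra hc
  push Not at hc
  cases nonempty_fintype H
  have h1 := P.card_mem hs
  have h2 : Nat.card {x : H // Mem V h t x} ≤ Nat.card ({h, t} : Finset H) :=
    Nat.card_le_card_of_injective (fun x => ⟨x.1, by
      rcases eq_or_ne x.1 h with e | e
      · simp [e]
      · simp [hc x.1 x.2 e]⟩) fun a b hab => Subtype.ext (congrArg Subtype.val hab :)
  rw [Nat.card_eq_finsetCard, Finset.card_pair P.ne] at h2
  have := one_lt_card_im (V := V) P.hh.1
  omega

end Pair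

end H48.BinAff
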