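import Cfsg.Agent.H48.BinAff.Pair

/-!
# Binary affine groups: the spread of a pair
-/

set_option autoImplicit false
set_option linter.unusedSectionVars false

namespace H48.BinAff

variable {H V : Type*} [Group H] [Finite H] [AddCommGroup V] [DistribMulAction H V] [FaithfulSMul H V] [Finite V]

namespace Pair

variable {p : ℕ} {h t : H}

/-- A member of the spread of a pair. -/
def Mem (V : Type*) [AddCommGroup V] [DistribMulAction H V] (h t x : H) : Prop :=
  Min V x ∧ fix2 V h t ≤ fix x ∧ im (V := V) x ≤ span2 V h t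

theorem mem_left (P : Pair V h t) : Mem V h t h := ⟨P.hh, inf_le_left, le_sup_left⟩

theorem mem_right (P : Pair V h t) : Mem V h t t := ⟨P.ht, inf_le_right, le_sup_right⟩

theorem exists_sol (P : Pair V h t) (hs : Setup H V p) {d : V} (hd : d ∈ span2 V h t) :
    ∃ x ∈ span2 V h t, (h * t) • x = x + d := by
  rw [← P.im_mul hs] at hd
  obtain ⟨x, hx⟩ := mem_im.1 hd
  obtain ⟨a, ha, l, hl, rfl⟩ := P.exists_add hs x
  rw [← P.fix_mul hs, mem_fix] at hl
  refine ⟨a, ha, ?_⟩
  rw [smul_add, hl, add_right_comm] at hx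
  exact add_right_cancel hx

theorem com_strict (P : Pair V h t) (hs : Setup H V p) {d x : V} (hd : d ∈ span2 V h t) (hd0 : d ≠ 0)
    (hx : (h * t) • x = x + d) :
    com hs.bin d • (x + x + d) = x + x + d ∧ x + x + d ∉ fix2 V h t := by
  refine ⟨?_, fun hmem => hd0 (P.mul_smul_ne_neg hs hd ?_)⟩
  · have := com_fix_sub hs.bin hx (inv_sol hx)
    rwa [show x - (-x - d) = x + x + d by abel] at this
  · rw [← P.fix_mul hs, mem_fix, smul_add, smul_add, hx] at hmem
    rw [show x + d + (x + d) + (h * t) • d = (x + x + d) + ((h * t) • d + d) by abel, add_eq_left] at hmem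
    rwa [eq_neg_iff_add_eq_zero]

/-- In exponent two a pair member is one of few displacements: every vector is covered. -/
theorem cover_weak (P : Pair V h t) (hs : Setup H V p) {d : V} (hd : d ∈ span2 V h t) (hd0 : d ≠ 0) :
    ∃ u : H, Min V u ∧ fix2 V h t ≤ fix u ∧ d ∈ im u ∧
      ((∀ x : V, x + x = 0 → x = 0) → im (V := V) u ≤ span2 V h t) := by
  by_cases hdh : d ∈ im h
  · exact ⟨h, P.hh, inf_le_left, hdh, fun _ => le_sup_left⟩
  obtain ⟨x, -, hx⟩ := P.exists_sol hs hd
  obtain ⟨hfix, hnot⟩ := P.com_strict hs hd hd0 hx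
  have hL : fix2 V h t ≤ fix (com hs.bin d) := P.fix_mul hs ▸ fix_le_com hs.bin hx
  have hu1 := com_ne_one hs.bin hd0 hx
  have hux := com_spec hs.bin hx
  have hudim : d ∈ im (V := V) (com hs.bin d) := mem_im.2 ⟨x, hux⟩
  have hle : (∀ x : V, x + x = 0 → x = 0) → im (V := V) (com hs.bin d) ≤ span2 V h t := by
    intro ho
    have hcop := not_dvd_card hs.bin ho hs.prime hs.exp
    let M : Subgroup H := fixer (fix2 V h t)
    let B : AddSubgroup V := ⨆ m : M, im (V := V) (m : H)
    have hB : ∀ g : H, fix2 V h t ≤ fix g → im (V := V) g ≤ B := fun g hg =>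
      le_iSup (fun m : M => im (V := V) (m : H)) ⟨g, mem_fixer.2 hg⟩
    have hD : span2 V h t ≤ B := sup_le (hB h inf_le_left) (hB t inf_le_right)
    have hdis : ∀ v ∈ B, v ∈ fix2 V h t → v = 0 := fun v h1 h2 =>
      eq_zero_of_mem_sup_im hs.prime hs.exp hcop M h1 fun m => m.2 v h2
    have hc := card_mul_card_le (le_top (a := B)) (le_top (a := fix2 V h t)) hdis
    rw [AddSubgroup.card_top, ← P.card_eq hs, ← P.card_span hs] at hc
    rw [AddSubgroup.eq_of_le_of_card_ge hD (Nat.le_of_mul_le_mul_right hc Nat.card_pos)]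
    exact hB _ hL
  refine ⟨com hs.bin d, P.hh.of_card_le hu1 ?_, hL, hudim, hle⟩
  by_contra hlt
  push Not at hlt
  rcases hs.two_or_odd with he | ho
  · -- exponent two
    obtain ⟨v, hvu, hvh, hv0⟩ : ∃ v ∈ im (V := V) (com hs.bin d), v ∈ fix h ∧ v ≠ 0 := by
      by_contra hc
      push Not at hc
      have hc' := card_mul_card_le (le_top (a := im (V := V) (com hs.bin d))) (le_top (a := fix (V := V) h))
        (fun v h1 h2 => hc v h1 h2)
      rw [AddSubgroup.card_top, ← card_im_mul_card_fix (V := V) h] at hc'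
      exact absurd (Nat.le_of_mul_le_mul_right hc' Nat.card_pos) (not_le.2 hlt)
    obtain ⟨y, hy⟩ := mem_im.1 hvu
    have hud : com hs.bin d • d = d := by
      rw [com_neg hs.bin hx, neg_eq_iff_add_eq_zero]; exact he d
    have hy2 : com hs.bin d • (y + d) = (y + d) + v := by rw [smul_add, hy, hud]; abel
    have hle' := fix_le_com hs.bin hy
    have hed : com hs.bin v • d = d := mem_fix.1 (hle' (mem_fix.2 hud))
    have hehd : com hs.bin v • (h • d) = h • d := by
      have := com_fix_sub hs.bin (conj_sol (mem_fix.1 hvh) hy2) (conj_sol (mem_fix.1 hvh) hy)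
      rwa [← smul_sub, add_sub_cancel_left] at this
    have hw0 : h • d - d ≠ 0 := by
      intro h0
      obtain ⟨a, ha, b, hb', rfl⟩ := AddSubgroup.mem_sup.1 hd
      rw [smul_add, P.hh.neg hs.bin ha, neg_eq_of_add_eq_zero_right (he a), add_sub_add_left_eq_sub] at h0
      rw [P.ht.im_inter_fix hs.bin P.nc b hb' (mem_fix.2 (sub_eq_zero.1 h0)), add_zero] at hdh
      exact hdh ha
    have hcomm : Commute (com hs.bin v) h :=
      P.hh.commute_of_fix hs.bin hw0 (smul_sub_mem_im h d) (by rw [smul_sub, hed, hehd])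
    have he1 := com_ne_one hs.bin hv0 hy
    have hdK : d ∉ fix (V := V) h := fun hk => hw0 (sub_eq_zero.2 (mem_fix.1 hk))
    obtain ⟨α, hα, hmove⟩ : ∃ α ∈ im (V := V) h, com hs.bin v • α ≠ α := by
      by_contra hc
      push Not at hc
      have hL' : fix2 V h t ≤ fix (com hs.bin v) := hL.trans hle'
      have hcap : ∀ z ∈ im (V := V) h, z ∈ fix2 V h t → z = 0 := fun z hz hz' =>
        P.span_inter_fix hs z (AddSubgroup.mem_sup_left hz) hz'
      have hself : im (V := V) h ≤ fix h := fun z hz => by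
        rw [mem_fix, P.hh.neg hs.bin hz, neg_eq_iff_add_eq_zero]; exact he z
      have hfh : fix (V := V) h = im h ⊔ fix2 V h t := by
        refine (AddSubgroup.eq_of_le_of_card_ge (sup_le hself inf_le_left) ?_).symm
        have h1 := P.card_eq hs
        rw [← card_im_mul_card_fix (V := V) h, mul_assoc] at h1
        rw [card_sup hcap, Nat.eq_of_mul_eq_mul_left Nat.card_pos h1]
      have hke : fix (V := V) h ≤ fix (com hs.bin v) :=
        hfh ▸ sup_le (fun z hz => mem_fix.2 (hc z hz)) hL'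
      exact hdK (P.hh.fix_eq he1 hke ▸ mem_fix.2 hed)
    have h3 : com hs.bin v • α - α ∈ im h := by
      obtain ⟨z, hz⟩ := mem_im.1 hα
      refine AddSubgroup.sub_mem _ (mem_im.2 ⟨com hs.bin v • z, ?_⟩) hα
      rw [← mul_smul, ← hcomm.eq, mul_smul, hz, smul_add]
    exact hdK (P.hh.fix_le_of_inter hs.bin (sub_ne_zero.2 hmove) h3 (smul_sub_mem_im _ α) (mem_fix.2 hed))
  · -- odd exponent
    have hz : (∀ z ∈ im (V := V) (com hs.bin d), z ∈ im h → z = 0) ∨
        ∀ z ∈ im (V := V) (com hs.bin d), z ∈ im t → z = 0 := by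
      by_contra hc
      push Not at hc
      obtain ⟨⟨z, hz, hzh, hz0⟩, w, hw, hwt, hw0⟩ := hc
      exact hnot ⟨P.hh.fix_le_of_inter hs.bin hz0 hzh hz (mem_fix.2 hfix),
        P.ht.fix_le_of_inter hs.bin hw0 hwt hw (mem_fix.2 hfix)⟩
    have hc : Nat.card (im (V := V) (com hs.bin d)) * Nat.card (im (V := V) h) ≤
        Nat.card (im (V := V) h) * Nat.card (im (V := V) h) := by
      rw [← P.card_span hs]
      rcases hz with hz | hz
      · exact card_mul_card_le (hle ho) le_sup_left hz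
      · rw [P.hh.card_im_eq P.ht]; exact card_mul_card_le (hle ho) le_sup_right hz
    exact absurd (Nat.le_of_mul_le_mul_right hc Nat.card_pos) (not_le.2 hlt)

/-- Every non-zero vector of the span of a pair is a displacement of a member of its spread. -/
theorem cover (P : Pair V h t) (hs : Setup H V p) {d : V} (hd : d ∈ span2 V h t) (hd0 : d ≠ 0) :
    ∃ u : H, Mem V h t u ∧ d ∈ im u := by
  by_cases hdh : d ∈ im h
  · exact ⟨h, P.mem_left, hdh⟩
  obtain ⟨u, hu, huL, hdu, hodd⟩ := P.cover_weak hs hd hd0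
  rcases hs.two_or_odd with he | ho
  swap
  · exact ⟨u, ⟨hu, huL, hodd ho⟩, hdu⟩
  refine ⟨u, ⟨hu, huL, ?_⟩, hdu⟩
  have hneg : ∀ {g : H}, Min V g → ∀ c ∈ im (V := V) g, g • c = c := fun hg c hc => by
    rw [hg.neg hs.bin hc, neg_eq_iff_add_eq_zero]; exact he c
  have hu0 : ∀ z ∈ im (V := V) u, z ∈ fix2 V h t → z = 0 := by
    intro z hz hzL
    by_contra hz0
    have hne : u ≠ h := fun e => hdh (e ▸ hdu)
    have hc : Commute h u := hu.commute_of_fix hs.bin hz0 hz (mem_fix.1 hzL.1)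
    have hdK := P.hh.im_le_fix hs.bin hu hne.symm hc hdu
    obtain ⟨a, ha, b, hb', rfl⟩ := AddSubgroup.mem_sup.1 hd
    have hb0 := P.ht.im_inter_fix hs.bin P.nc b hb' (by
      simpa using (fix (V := V) h).sub_mem hdK (mem_fix.2 (hneg P.hh a ha)))
    exact hdh (by rw [hb0, add_zero]; exact ha)
  -- the fixed vectors of `u` inside the span
  let Q : AddSubgroup V := fix u ⊓ span2 V h t
  have hQ : fix (V := V) u = Q ⊔ fix2 V h t := by
    refine le_antisymm (fun z hz => ?_) (sup_le inf_le_left huL)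
    obtain ⟨a, ha, l, hl, rfl⟩ := P.exists_add hs z
    exact AddSubgroup.add_mem_sup ⟨by simpa using (fix (V := V) u).sub_mem hz (huL hl), ha⟩ hl
  have hQd : ∀ z ∈ Q, z ∈ fix2 V h t → z = 0 := fun z hz hz' => P.span_inter_fix hs z hz.2 hz'
  have hqL : Nat.card (fix (V := V) h) = Nat.card (im (V := V) h) * Nat.card (fix2 V h t) := by
    have h1 := P.card_eq hs
    rw [← card_im_mul_card_fix (V := V) h, mul_assoc] at h1
    exact (Nat.eq_of_mul_eq_mul_left Nat.card_pos h1).symm
  have hQcard : Nat.card Q = Nat.card (im (V := V) h) := by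
    have h1 := hu.card_fix_eq P.hh
    rw [hqL, hQ, card_sup hQd] at h1
    exact Nat.eq_of_mul_eq_mul_right Nat.card_pos h1
  have hfu : ∀ {σ : H}, Min V σ → fix2 V h t ≤ fix σ → im (V := V) u ≤ fix σ → fix (V := V) σ = im u ⊔ fix2 V h t := by
    intro σ hσ h1 h2
    refine (AddSubgroup.eq_of_le_of_card_ge (sup_le h2 h1) ?_).symm
    rw [card_sup hu0, hσ.card_fix_eq P.hh, hqL, hu.card_im_eq P.hh]
  have hsig : ∀ a ∈ Q, a ≠ 0 → ∃ σ : H, Min V σ ∧ a ∈ im σ ∧ fix (V := V) σ = fix u := by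
    intro a ha ha0
    obtain ⟨σ, hσ, hσL, haσ, -⟩ := P.cover_weak hs ha.2 ha0
    refine ⟨σ, hσ, haσ, ?_⟩
    by_cases hne : σ = u
    · rw [hne]
    have hc : Commute u σ := hσ.commute_of_fix hs.bin ha0 haσ (mem_fix.1 ha.1)
    rw [hfu hσ hσL (hσ.im_le_fix hs.bin hu hne hc.symm),
      hfu hu huL fun z hz => mem_fix.2 (hneg hu z hz)]
  -- glue the product of the pair with the identity
  classical
  let Y : Set V := {y | y ∈ span2 V h t ∧ (h * t) • y - y ∈ Q}
  have hboth : ∀ y ∈ Y, y ∈ fix (V := V) u → (h * t) • y = y := by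
    intro y hy hyu
    by_contra hne
    obtain ⟨σ, hσ, haσ, hσf⟩ := hsig _ hy.2 (sub_ne_zero.2 hne)
    obtain ⟨z, hz⟩ := mem_im.1 haσ
    have := (hσ.common hs.bin (sub_ne_zero.2 hne) hz (show (h * t) • y = y + ((h * t) • y - y) by abel)).2
    rw [mem_fix.1 (hσf ▸ hyu), add_sub_cancel] at this
    exact hne this.symm
  let f : V → V := fun y => if y ∈ fix u then y else (h * t) • y
  have hfY : ∀ y ∈ Y, f y = (h * t) • y := fun y hy => by
    by_cases hyu : y ∈ fix (V := V) u
    · simp only [f, if_pos hyu, hboth y hy hyu]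
    · simp only [f, if_neg hyu]
  have hfU : ∀ y ∈ fix (V := V) u, f y = y := fun y hy => by simp only [f, if_pos hy]
  have hmix : ∀ y ∈ Y, ∀ z ∈ fix (V := V) u, ∃ σ : H, σ • y = (h * t) • y ∧ σ • z = z := by
    intro y hy z hz
    by_cases h0 : (h * t) • y - y = 0
    · exact ⟨1, by rw [one_smul, sub_eq_zero.1 h0], one_smul H z⟩
    obtain ⟨σ, hσ, haσ, hσf⟩ := hsig _ hy.2 h0
    obtain ⟨w, hw⟩ := mem_im.1 haσ
    refine ⟨σ, ?_, mem_fix.1 (hσf ▸ hz)⟩
    rw [(hσ.common hs.bin h0 hw (show (h * t) • y = y + ((h * t) • y - y) by abel)).2, add_sub_cancel]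
  obtain ⟨g, s, hgs⟩ := hs.bin (((fix (V := V) u : AddSubgroup V) : Set V) ∪ Y) f (by
    rintro y (hy | hy) z (hz | hz)
    · exact ⟨1, by rw [one_smul, hfU y hy, hfU z hz]⟩
    · obtain ⟨σ, h1, h2⟩ := hmix z hz y hy
      exact ⟨σ, by rw [smul_sub, h1, h2, hfU y hy, hfY z hz]⟩
    · obtain ⟨σ, h1, h2⟩ := hmix y hy z hz
      exact ⟨σ, by rw [smul_sub, h1, h2, hfY y hy, hfU z hz]⟩
    · exact ⟨h * t, by rw [smul_sub, hfY y hy, hfY z hz]⟩)
  have hs0 : s = 0 := by
    have := hgs 0 (Or.inl (fix u).zero_mem)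
    rw [hfU 0 (fix u).zero_mem, smul_zero, zero_add] at this
    exact this.symm
  have hgU : fix (V := V) u ≤ fix g := fun z hz => by
    rw [mem_fix]
    have := hgs z (Or.inl hz)
    rw [hfU z hz, hs0, add_zero] at this
    exact this.symm
  have hgY : ∀ a ∈ Q, a ∈ im g := by
    intro a ha
    obtain ⟨y, hyD, hy⟩ := P.exists_sol hs ha.2
    have hyY : y ∈ Y := ⟨hyD, by rw [hy, add_sub_cancel_left]; exact ha⟩
    have := hgs y (Or.inr hyY)
    rw [hfY y hyY, hs0, add_zero, hy] at this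
    exact mem_im.2 ⟨y, this.symm⟩
  have hg1 : g ≠ 1 := by
    intro e
    obtain ⟨y, hy⟩ := mem_im.1 (hgY d ⟨mem_fix.2 (hneg hu d hdu), hd⟩)
    rw [e, one_smul, left_eq_add] at hy
    exact hd0 hy
  have hgf : fix (V := V) u = fix g := hu.fix_eq hg1 hgU
  have hgmin : Min V g := by
    refine hu.of_card_le hg1 (le_of_eq ?_)
    have h1 := card_im_mul_card_fix (V := V) g
    rw [← hgf, ← card_im_mul_card_fix (V := V) u] at h1
    exact Nat.eq_of_mul_eq_mul_right Nat.card_pos h1
  have hgu : g = u := hgmin.unique hs.bin hu hd0 (hgY d ⟨mem_fix.2 (hneg hu d hdu), hd⟩) hdu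
  subst hgu
  have heq : Q = im g := AddSubgroup.eq_of_le_of_card_ge (fun a ha => hgY a ha)
    (le_of_eq (by rw [hQcard, hu.card_im_eq P.hh]))
  rw [← heq]
  exact inf_le_right

/-- Two members of a spread that do not commute form a pair with the same span and fixed vectors. -/
theorem sub_pair (P : Pair V h t) (hs : Setup H V p) {x y : H} (hx : Mem V h t x) (hy : Mem V h t y)
    (hnc : ¬ Commute x y) : Pair V x y ∧ span2 V x y = span2 V h t ∧ fix2 V x y = fix2 V h t := by
  have P' : Pair V x y := ⟨hx.1, hy.1, hnc⟩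
  refine ⟨P', AddSubgroup.eq_of_le_of_card_ge (sup_le hx.2.2 hy.2.2) ?_,
    (AddSubgroup.eq_of_le_of_card_ge (le_inf hx.2.1 hy.2.1) ?_).symm⟩
  · rw [P.card_span hs, P'.card_span hs, P.hh.card_im_eq hx.1]
  · have h1 := P.card_eq hs
    rw [← P'.card_eq hs, hx.1.card_im_eq P.hh] at h1
    exact (Nat.eq_of_mul_eq_mul_left (Nat.mul_pos Nat.card_pos Nat.card_pos) h1).ge

end Pair

end H48.BinAff
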