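import Cfsg.Agent.H48.BinAff.Basic

/-!
# Binary affine groups: elements with fewest displacements
-/

set_option autoImplicit false
set_option linter.unusedSectionVars false

namespace H48.BinAff

variable {H V : Type*} [Group H] [AddCommGroup V] [DistribMulAction H V] [FaithfulSMul H V] [Finite V]

/-- `h` is a non-identity element with the fewest displacements. -/
def Min (V : Type*) [AddCommGroup V] [DistribMulAction H V] (h : H) : Prop :=
  h ≠ 1 ∧ ∀ g : H, g ≠ 1 → Nat.card (im (V := V) h) ≤ Nat.card (im (V := V) g)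

theorem eq_one_of_fix_top {g : H} (h : ∀ x : V, g • x = x) : g = 1 :=
  eq_of_smul_eq_smul fun x => by rw [h x, one_smul]

theorem exists_min [Finite H] (hH : ∃ g : H, g ≠ 1) : ∃ h : H, Min V h := by
  classical
  cases nonempty_fintype H
  obtain ⟨g, hg⟩ := hH
  obtain ⟨h, hh, hle⟩ := (Finset.univ.filter fun x : H => x ≠ 1).exists_min_image
    (fun x => Nat.card (im (V := V) x)) ⟨g, by simp [hg]⟩
  simp only [Finset.mem_filter, Finset.mem_univ, true_and] at hh hle
  exact ⟨h, hh, hle⟩

theorem Min.fix_eq {h g : H} (hh : Min V h) (hg : g ≠ 1) (hle : fix (V := V) h ≤ fix g) :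
    fix (V := V) h = fix g := by
  refine AddSubgroup.eq_of_le_of_card_ge hle ?_
  have h1 := card_im_mul_card_fix (V := V) h
  have h2 := card_im_mul_card_fix (V := V) g
  by_contra hlt
  push Not at hlt
  have hpos : 0 < Nat.card (im (V := V) g) := Nat.card_pos
  have := Nat.mul_le_mul_right (Nat.card (fix (V := V) h)) (hh.2 g hg)
  nlinarith

theorem Min.of_card_le {h g : H} (hh : Min V h) (hg : g ≠ 1)
    (hle : Nat.card (im (V := V) g) ≤ Nat.card (im (V := V) h)) : Min V g :=
  ⟨hg, fun x hx => hle.trans (hh.2 x hx)⟩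

theorem Min.card_im_eq {h g : H} (hh : Min V h) (hg : Min V g) :
    Nat.card (im (V := V) h) = Nat.card (im (V := V) g) :=
  le_antisymm (hh.2 g hg.1) (hg.2 h hh.1)

theorem Min.card_fix_eq {h g : H} (hh : Min V h) (hg : Min V g) :
    Nat.card (fix (V := V) h) = Nat.card (fix (V := V) g) := by
  have h1 := card_im_mul_card_fix (V := V) h
  have h2 := card_im_mul_card_fix (V := V) g
  rw [← hh.card_im_eq hg, ← h1] at h2
  exact (Nat.eq_of_mul_eq_mul_left Nat.card_pos h2).symm

variable (hb : Bin H V)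
include hb

/-- A displacement of `g` which is one of the minimal element `h`. -/
theorem Min.common {h g : H} (hh : Min V h) {d x y : V} (hd : d ≠ 0) (hx : h • x = x + d) (hy : g • y = y + d) :
    fix (V := V) g ≤ fix h ∧ h • y = y + d := by
  have he : fix (V := V) h = fix (com hb d) := hh.fix_eq (com_ne_one hb hd hx) (fix_le_com hb hx)
  refine ⟨he ▸ fix_le_com hb hy, ?_⟩
  have h1 : y - x ∈ fix (V := V) h := he ▸ mem_fix.2 (com_fix_sub hb hy hx)
  rw [mem_fix, smul_sub, hx, sub_eq_iff_eq_add] at h1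
  rw [h1]; abel

theorem Min.fix_le_of_inter {h g : H} (hh : Min V h) {d : V} (hd : d ≠ 0) (h1 : d ∈ im h) (h2 : d ∈ im g) :
    fix (V := V) g ≤ fix h := by
  obtain ⟨x, hx⟩ := mem_im.1 h1
  obtain ⟨y, hy⟩ := mem_im.1 h2
  exact (hh.common hb hd hx hy).1

/-- Minimal elements are determined by any one displacement. -/
theorem Min.unique {h t : H} (hh : Min V h) (ht : Min V t) {d : V} (hd : d ≠ 0) (h1 : d ∈ im h) (h2 : d ∈ im t) :
    h = t := by
  obtain ⟨x, hx⟩ := mem_im.1 h1
  obtain ⟨y, hy⟩ := mem_im.1 h2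
  have e1 := (hh.common hb hd hx hy).1
  have e2 := (ht.common hb hd hy hx).1
  have e3 := (hh.common hb hd hx hy).2
  by_contra hne
  have hg : t⁻¹ * h ≠ 1 := fun e => hne (inv_mul_eq_one.1 e).symm
  have hle : fix (V := V) h ≤ fix (t⁻¹ * h) := fun z hz => by
    rw [mem_fix, mul_smul, mem_fix.1 hz, inv_smul_eq_iff, mem_fix.1 (e2 hz)]
  have hy' : y ∈ fix (V := V) (t⁻¹ * h) := by
    rw [mem_fix, mul_smul, e3, inv_smul_eq_iff, hy]
  rw [← hh.fix_eq hg hle, mem_fix, e3] at hy'
  exact hd (by simpa using hy')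

theorem Min.inv {h : H} (hh : Min V h) : Min V h⁻¹ ∧ h⁻¹ = h := by
  have him : im (V := V) h⁻¹ = im h := by
    apply le_antisymm
    · rintro d ⟨x, rfl⟩
      have : disp h⁻¹ x = disp h (-(h⁻¹ • x)) := by
        simp only [disp_apply, smul_neg, smul_inv_smul]; abel
      rw [this]; exact ⟨_, rfl⟩
    · rintro d ⟨x, rfl⟩
      have : disp h x = disp h⁻¹ (-(h • x)) := by
        simp only [disp_apply, smul_neg, inv_smul_smul]; abel
      rw [this]; exact ⟨_, rfl⟩
  have hi : Min V h⁻¹ := hh.of_card_le (inv_ne_one.2 hh.1) (le_of_eq (by rw [him]))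
  refine ⟨hi, ?_⟩
  obtain ⟨x, hx⟩ : ∃ x : V, h • x ≠ x := by
    by_contra hc
    push Not at hc
    exact hh.1 (eq_one_of_fix_top hc)
  exact hi.unique hb hh (sub_ne_zero.2 hx) (him ▸ smul_sub_mem_im h x) (smul_sub_mem_im h x)

theorem Min.smul_smul {h : H} (hh : Min V h) (x : V) : h • h • x = x := by
  conv_lhs => arg 1; rw [← (hh.inv hb).2]
  rw [inv_smul_smul]

/-- A minimal element negates its displacements. -/
theorem Min.neg {h : H} (hh : Min V h) {w : V} (hw : w ∈ im h) : h • w = -w := by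
  obtain ⟨x, hx⟩ := mem_im.1 hw
  have := hh.smul_smul hb x
  rw [hx, smul_add, hx] at this
  rw [eq_neg_iff_add_eq_zero, add_comm]
  simpa [add_assoc] using this

omit hb in
theorem mem_im_conj {h γ : H} {w : V} (hw : w ∈ im h) : γ • w ∈ im (γ * h * γ⁻¹) := by
  obtain ⟨x, hx⟩ := mem_im.1 hw
  exact mem_im.2 ⟨γ • x, by rw [mul_smul, mul_smul, inv_smul_smul, hx, smul_add]⟩

omit hb in
theorem Min.conj {h : H} (hh : Min V h) (γ : H) : Min V (γ * h * γ⁻¹) := by
  refine hh.of_card_le (by simpa using hh.1) ?_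
  refine (Nat.card_le_card_of_injective (fun w : im (V := V) (γ * h * γ⁻¹) => (⟨γ⁻¹ • w.1, by
    have := mem_im_conj (γ := γ⁻¹) w.2
    simpa [mul_assoc] using this⟩ : im (V := V) h)) ?_)
  intro a b hab
  exact Subtype.ext (MulAction.injective γ⁻¹ (congrArg Subtype.val hab))

/-- An element fixing a displacement of a minimal element commutes with it. -/
theorem Min.commute_of_fix {t γ : H} (ht : Min V t) {a : V} (ha : a ≠ 0) (h1 : a ∈ im t) (h2 : γ • a = a) :
    Commute γ t := by
  have e := (ht.conj γ).unique hb ht ha (h2 ▸ mem_im_conj h1) h1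
  exact mul_inv_eq_iff_eq_mul.1 e

theorem Min.im_le_fix {h t : H} (hh : Min V h) (ht : Min V t) (hne : h ≠ t) (hc : Commute h t) :
    im (V := V) t ≤ fix h := by
  rintro a ⟨x, rfl⟩
  rw [mem_fix, ← sub_eq_zero]
  by_contra h0
  refine hne (hh.unique hb ht h0 (smul_sub_mem_im h _) ?_)
  have : h • disp t x - disp t x = disp t (h • x - x) := by
    simp only [disp_apply, smul_sub]
    rw [← mul_smul, hc.eq, mul_smul]
    abel
  rw [this]; exact ⟨_, rfl⟩

theorem Min.disjoint {h t : H} (hh : Min V h) (ht : Min V t) (hne : h ≠ t) :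
    ∀ x ∈ im (V := V) h, x ∈ im t → x = 0 := fun x h1 h2 => by
  by_contra h0
  exact hne (hh.unique hb ht h0 h1 h2)

/-- Two minimal elements that do not commute move each other's displacements. -/
theorem Min.im_inter_fix {h t : H} (ht : Min V t) (hnc : ¬ Commute h t) :
    ∀ a ∈ im (V := V) t, a ∈ fix h → a = 0 := fun a h1 h2 => by
  by_contra h0
  exact hnc (ht.commute_of_fix hb h0 h1 (mem_fix.1 h2))

end H48.BinAff
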