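import Cfsg.Agent.H48.BinAff.Two

/-!
# Binary affine groups: odd exponent, the spread is everything

Three pairwise commuting minimal elements would give a polarity of a projective plane without
absolute points.
-/

set_option autoImplicit false
set_option linter.unusedSectionVars false

namespace H48.BinAff

variable {H V : Type*} [Group H] [Finite H] [AddCommGroup V] [DistribMulAction H V] [FaithfulSMul H V] [Finite V]

variable {p : ℕ}

theorem Min.exists_ne {g : H} (hg : Min V g) : ∃ a ∈ im (V := V) g, a ≠ 0 := by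
  obtain ⟨a, b, hab⟩ := (Finite.one_lt_card_iff_nontrivial.1 (one_lt_card_im (V := V) hg.1)).exists_pair_ne
  by_cases e : (a : V) = 0
  · exact ⟨b.1, b.2, fun e' => hab (Subtype.ext (e.trans e'.symm))⟩
  · exact ⟨a.1, a.2, e⟩

theorem dvd_card_im (hs : Setup H V p) {g : H} (hg : Min V g) : p ∣ Nat.card (im (V := V) g) := by
  haveI : Fact p.Prime := ⟨hs.prime⟩
  obtain ⟨a, ha, ha0⟩ := hg.exists_ne
  have ho : addOrderOf (⟨a, ha⟩ : im (V := V) g) = p :=
    addOrderOf_eq_prime (Subtype.ext (hs.exp a)) (fun e => ha0 (congrArg Subtype.val e))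
  exact ho ▸ addOrderOf_dvd_natCard _

theorem Min.not_fix (hs : Setup H V p) (ho : ∀ x : V, x + x = 0 → x = 0) {g : H} (hg : Min V g) :
    ∀ a ∈ im (V := V) g, a ∈ fix g → a = 0 := fun a ha hf =>
  eq_zero_of_im_fix hs.bin ho ha (mem_fix.1 hf)

/-- A minimal element splits `V`. -/
theorem Min.split (hs : Setup H V p) (ho : ∀ x : V, x + x = 0 → x = 0) {g : H} (hg : Min V g) (z : V) :
    ∃ w ∈ im (V := V) g, ∃ f ∈ fix (V := V) g, w + f = z :=
  AddSubgroup.mem_sup.1 ((sup_eq_top (hg.not_fix hs ho) (card_im_mul_card_fix g).ge) ▸ AddSubgroup.mem_top z)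

namespace Pair

variable {h t : H}

/-- In odd exponent every member of a spread commutes with a second one. -/
theorem exists_orth (P : Pair V h t) (hs : Setup H V p) (ho : ∀ x : V, x + x = 0 → x = 0) {x : H}
    (hx : Mem V h t x) : ∃ y, Mem V h t y ∧ y ≠ x ∧ Commute y x := by
  have hlt : im (V := V) x ≠ span2 V h t := by
    intro e
    have h1 := P.card_span hs
    rw [← e, hx.1.card_im_eq P.hh] at h1
    have h2 := one_lt_card_im (V := V) P.hh.1
    nlinarith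
  obtain ⟨d, hd, hdn⟩ := SetLike.exists_of_lt (lt_of_le_of_ne hx.2.2 hlt)
  obtain ⟨w, hw, f, hf, rfl⟩ := hx.1.split hs ho d
  have hfD : f ∈ span2 V h t := by simpa using AddSubgroup.sub_mem _ hd (hx.2.2 hw)
  have hf0 : f ≠ 0 := fun e => hdn (by rw [e, add_zero]; exact hw)
  obtain ⟨y, hy, hfy⟩ := P.cover hs hfD hf0
  refine ⟨y, hy, fun e => hf0 (hx.1.not_fix hs ho f (e ▸ hfy) hf), ?_⟩
  exact (hy.1.commute_of_fix hs.bin hf0 hfy (mem_fix.1 hf)).symm

theorem span_eq_of_two (P : Pair V h t) (hs : Setup H V p) {x y : H} (hx : Mem V h t x) (hy : Mem V h t y)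
    (hne : x ≠ y) : im (V := V) x ⊔ im y = span2 V h t :=
  AddSubgroup.eq_of_le_of_card_ge (sup_le hx.2.2 hy.2.2) (le_of_eq (by
    rw [P.card_span hs, card_sup (hx.1.disjoint hs.bin hy.1 hne), hx.1.card_im_eq P.hh, hy.1.card_im_eq P.hh]))

end Pair

/-- Three commuting minimal elements, two pairs of which lie in spreads. -/
structure Frame (V : Type*) [AddCommGroup V] [DistribMulAction H V] (t a b : H) : Prop where
  ht : Min V t
  ha : Min V a
  hb : Min V b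
  hta : Commute t a
  htb : Commute t b
  hab : Commute a b
  nta : t ≠ a
  ntb : t ≠ b
  nab : a ≠ b
  sp1 : ∃ h₁ t₁ : H, Pair V h₁ t₁ ∧ Pair.Mem V h₁ t₁ t ∧ Pair.Mem V h₁ t₁ a
  sp2 : ∃ h₂ t₂ : H, Pair V h₂ t₂ ∧ Pair.Mem V h₂ t₂ t ∧ Pair.Mem V h₂ t₂ b

theorem Pair.exists_frame {h t : H} (P : Pair V h t) (hs : Setup H V p) (ho : ∀ x : V, x + x = 0 → x = 0)
    {v : H} (hv : Min V v) (hnc : ¬ Commute v t) (hout : ¬ im (V := V) v ≤ span2 V h t) :
    ∃ t a b : H, Frame V t a b := by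
  obtain ⟨a, ha, hat, hcat⟩ := P.exists_orth hs ho P.mem_right
  have P' : Pair V v t := ⟨hv, P.ht, hnc⟩
  obtain ⟨b, hb, hbt, hcbt⟩ := P'.exists_orth hs ho P'.mem_right
  have hab : a ≠ b := by
    rintro rfl
    refine hout ?_
    rw [← P.span_eq_of_two hs ha P.mem_right hat, P'.span_eq_of_two hs hb P'.mem_right hat]
    exact le_sup_left
  by_cases hc : Commute a b
  · exact ⟨t, a, b, P.ht, ha.1, hb.1, hcat.symm, hcbt.symm, hc, hat.symm, hbt.symm, hab,
      ⟨h, t, P, P.mem_right, ha⟩, ⟨v, t, P', P'.mem_right, hb⟩⟩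
  have P'' : Pair V a b := ⟨ha.1, hb.1, hc⟩
  obtain ⟨b', hb', hb'a, hcb'a⟩ := P''.exists_orth hs ho P''.mem_left
  have hle : span2 V a b ≤ fix t :=
    sup_le (P.ht.im_le_fix hs.bin ha.1 hat.symm hcat.symm) (P.ht.im_le_fix hs.bin hb.1 hbt.symm hcbt.symm)
  obtain ⟨c, hc', hc0⟩ := hb'.1.exists_ne
  have hct : t • c = c := mem_fix.1 (hle (hb'.2.2 hc'))
  have hb't : b' ≠ t := fun e => hc0 (P.ht.not_fix hs ho c (e ▸ hc') (mem_fix.2 hct))
  exact ⟨a, t, b', ha.1, P.ht, hb'.1, hcat, hcb'a.symm, hb'.1.commute_of_fix hs.bin hc0 hc' hct, hat, hb'a.symm,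
    hb't.symm, ⟨h, t, P, ha, P.mem_right⟩, ⟨a, b, P'', P''.mem_left, hb'⟩⟩

namespace Frame

variable {t a b : H}

/-- The sum of the three displacement groups. -/
abbrev span3 (V : Type*) [AddCommGroup V] [DistribMulAction H V] (t a b : H) : AddSubgroup V := im t ⊔ im a ⊔ im b

/-- The common fixed vectors. -/
abbrev fix3 (V : Type*) [AddCommGroup V] [DistribMulAction H V] (t a b : H) : AddSubgroup V :=
  fix t ⊓ fix a ⊓ fix b

/-- A minimal element inside the frame. -/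
def Inner (V : Type*) [AddCommGroup V] [DistribMulAction H V] (t a b x : H) : Prop :=
  Min V x ∧ fix3 V t a b ≤ fix x ∧ im (V := V) x ≤ span3 V t a b

theorem fix_zero (hs : Setup H V p) (ho : ∀ x : V, x + x = 0 → x = 0) {x y : H} (hx : Min V x) (hy : Min V y)
    (hne : x ≠ y) (hc : Commute x y) {u w : V} (hu : u ∈ im x) (hw : w ∈ im y) (hf : u + w ∈ fix x) : u = 0 :=
  hx.not_fix hs ho u hu (by simpa using (fix (V := V) x).sub_mem hf (hx.im_le_fix hs.bin hy hne hc hw))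

theorem pair_fix (hs : Setup H V p) (ho : ∀ x : V, x + x = 0 → x = 0) {h₁ t₁ x y : H} (P : Pair V h₁ t₁)
    (hx : Pair.Mem V h₁ t₁ x) (hy : Pair.Mem V h₁ t₁ y) (hne : x ≠ y) (hc : Commute x y) :
    fix (V := V) x ⊓ fix y ≤ fix2 V h₁ t₁ := by
  intro z hz
  obtain ⟨d, hd, l, hl, rfl⟩ := P.exists_add hs z
  rw [← P.span_eq_of_two hs hx hy hne] at hd
  obtain ⟨u, hu, w, hw, rfl⟩ := AddSubgroup.mem_sup.1 hd
  have hu0 : u = 0 := fix_zero hs ho hx.1 hy.1 hne hc hu hw (by simpa using (fix (V := V) x).sub_mem hz.1 (hx.2.1 hl))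
  have hw0 : w = 0 := hy.1.not_fix hs ho w hw (by
    simpa [hu0] using (fix (V := V) y).sub_mem hz.2 (hy.2.1 hl))
  rw [hu0, hw0, add_zero, zero_add]
  exact hl

theorem card_span3 (F : Frame V t a b) (hs : Setup H V p) (ho : ∀ x : V, x + x = 0 → x = 0) :
    Nat.card (span3 V t a b) =
      Nat.card (im (V := V) t) * Nat.card (im (V := V) t) * Nat.card (im (V := V) t) := by
  rw [card_sup, card_sup (F.ht.disjoint hs.bin F.ha F.nta), F.ha.card_im_eq F.ht, F.hb.card_im_eq F.ht]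
  intro x hx hxb
  obtain ⟨u, hu, w, hw, rfl⟩ := AddSubgroup.mem_sup.1 hx
  refine F.hb.not_fix hs ho _ hxb ?_
  exact (sup_le (F.hb.im_le_fix hs.bin F.ht F.ntb.symm F.htb.symm) (F.hb.im_le_fix hs.bin F.ha F.nab.symm F.hab.symm))
    (AddSubgroup.add_mem_sup hu hw)

theorem exists_add (F : Frame V t a b) (hs : Setup H V p) (ho : ∀ x : V, x + x = 0 → x = 0) (z : V) :
    ∃ y ∈ span3 V t a b, ∃ l ∈ fix3 V t a b, y + l = z := by
  obtain ⟨h₁, t₁, P₁, ht1, ha1⟩ := F.sp1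
  obtain ⟨h₂, t₂, P₂, ht2, hb2⟩ := F.sp2
  obtain ⟨d, hd, l, hl, rfl⟩ := P₁.exists_add hs z
  obtain ⟨d', hd', l', hl', rfl⟩ := P₂.exists_add hs l
  rw [← P₁.span_eq_of_two hs ht1 ha1 F.nta] at hd
  rw [← P₂.span_eq_of_two hs ht2 hb2 F.ntb] at hd'
  obtain ⟨u, hu, w, hw, rfl⟩ := AddSubgroup.mem_sup.1 hd'
  have hu0 : u = 0 := fix_zero hs ho F.ht F.hb F.ntb F.htb hu hw
    (by simpa using (fix (V := V) t).sub_mem (ht1.2.1 hl) (ht2.2.1 hl'))
  subst hu0
  rw [zero_add] at hl hd' ⊢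
  refine ⟨d + w, AddSubgroup.add_mem _ (AddSubgroup.mem_sup_left hd) (AddSubgroup.mem_sup_right hw), l',
    ⟨⟨ht2.2.1 hl', ?_⟩, hb2.2.1 hl'⟩, by rw [add_assoc]⟩
  show l' ∈ fix a
  simpa using (fix (V := V) a).sub_mem (ha1.2.1 hl) (F.ha.im_le_fix hs.bin F.hb F.nab F.hab hw)

theorem cover (F : Frame V t a b) (hs : Setup H V p) (ho : ∀ x : V, x + x = 0 → x = 0) {d : V}
    (hd : d ∈ span3 V t a b) (hd0 : d ≠ 0) : ∃ x : H, Inner V t a b x ∧ d ∈ im x := by
  obtain ⟨h₁, t₁, P₁, ht1, ha1⟩ := F.sp1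
  obtain ⟨h₂, t₂, P₂, ht2, hb2⟩ := F.sp2
  have e1 := P₁.span_eq_of_two hs ht1 ha1 F.nta
  have e2 := P₂.span_eq_of_two hs ht2 hb2 F.ntb
  have hL1 := pair_fix hs ho P₁ ht1 ha1 F.nta F.hta
  have hL2 := pair_fix hs ho P₂ ht2 hb2 F.ntb F.htb
  have hin1 : ∀ {x : H}, Pair.Mem V h₁ t₁ x → Inner V t a b x := fun hx =>
    ⟨hx.1, fun l hl => hx.2.1 (hL1 ⟨hl.1.1, hl.1.2⟩), hx.2.2.trans (e1 ▸ le_sup_left)⟩
  have hin2 : ∀ {x : H}, Pair.Mem V h₂ t₂ x → Inner V t a b x := fun hx =>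
    ⟨hx.1, fun l hl => hx.2.1 (hL2 ⟨hl.1.1, hl.2⟩), hx.2.2.trans
      (e2 ▸ sup_le (le_sup_of_le_left le_sup_left) le_sup_right)⟩
  obtain ⟨ta, hta', db, hdb, rfl⟩ := AddSubgroup.mem_sup.1 hd
  obtain ⟨dt, hdt, da, hda, rfl⟩ := AddSubgroup.mem_sup.1 hta'
  by_cases hb0 : db = 0
  · subst hb0
    rw [add_zero] at hd0 ⊢
    obtain ⟨x, hx, hxd⟩ := P₁.cover hs (e1 ▸ hta') hd0
    exact ⟨x, hin1 hx, hxd⟩
  by_cases ha0 : da = 0
  · subst ha0
    rw [add_zero] at hd0 ⊢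
    obtain ⟨x, hx, hxd⟩ := P₂.cover hs (e2 ▸ AddSubgroup.add_mem_sup hdt hdb) hd0
    exact ⟨x, hin2 hx, hxd⟩
  obtain ⟨e, he, he0, het⟩ : ∃ e ∈ im (V := V) t, e ≠ 0 ∧ e ≠ dt := by
    obtain ⟨c, hc, hc0⟩ := F.ht.exists_ne
    by_cases hcd : c = dt
    · refine ⟨-c, AddSubgroup.neg_mem _ hc, neg_ne_zero.2 hc0, fun h => hc0 (ho c ?_)⟩
      rw [← hcd, neg_eq_iff_add_eq_zero] at h
      exact h
    · exact ⟨c, hc, hc0, hcd⟩
  have hx0 : e + da ≠ 0 := fun h => he0 (F.ht.disjoint hs.bin F.ha F.nta e he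
    (by rw [eq_neg_of_add_eq_zero_left h]; exact AddSubgroup.neg_mem _ hda))
  have hv0 : (dt - e) + db ≠ 0 := fun h => het (sub_eq_zero.1 (F.ht.disjoint hs.bin F.hb F.ntb _
    (AddSubgroup.sub_mem _ hdt he) (by rw [eq_neg_of_add_eq_zero_left h]; exact AddSubgroup.neg_mem _ hdb))).symm
  obtain ⟨x, hx, hxd⟩ := P₁.cover hs (e1 ▸ AddSubgroup.add_mem_sup he hda) hx0
  obtain ⟨v, hv, hvd⟩ := P₂.cover hs (e2 ▸ AddSubgroup.add_mem_sup (AddSubgroup.sub_mem _ hdt he) hdb) hv0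
  have hfa : im (V := V) a ≤ fix v := fun w hw => hv.2.1 (hL2
    ⟨F.ht.im_le_fix hs.bin F.ha F.nta F.hta hw, F.hb.im_le_fix hs.bin F.ha F.nab.symm F.hab.symm hw⟩)
  have hvt : v ≠ t := by
    rintro rfl
    refine hb0 (F.ht.disjoint hs.bin F.hb F.ntb db ?_ hdb)
    simpa using AddSubgroup.sub_mem _ hvd (AddSubgroup.sub_mem _ hdt he)
  have hxv : x ≠ v := by
    rintro rfl
    refine ha0 (hv.1.not_fix hs ho da ?_ (hfa hda) :)
    have h' : e + da ∈ span2 V h₂ t₂ := hv.2.2 hxd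
    rw [← e2] at h'
    obtain ⟨u, hu, w, hw, he'⟩ := AddSubgroup.mem_sup.1 h'
    have hda' : da ∈ im (V := V) t ⊔ im b := by
      have : da = (u - e) + w := by rw [sub_add_eq_add_sub, he', add_sub_cancel_left]
      rw [this]; exact AddSubgroup.add_mem_sup (AddSubgroup.sub_mem _ hu he) hw
    have := F.ha.not_fix hs ho da hda ((sup_le (F.ha.im_le_fix hs.bin F.ht F.nta.symm F.hta.symm)
      (F.ha.im_le_fix hs.bin F.hb F.nab F.hab)) hda')
    rw [this]; exact AddSubgroup.zero_mem _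
  have hnc : ¬ Commute x v := by
    intro hc
    have h1 := hv.1.im_le_fix hs.bin hx.1 hxv.symm hc.symm hxd
    have h2 : e ∈ fix (V := V) v := by simpa using (fix (V := V) v).sub_mem h1 (hfa hda)
    have h3 : Commute v t := F.ht.commute_of_fix hs.bin he0 he (mem_fix.1 h2)
    have h4 := F.ht.im_le_fix hs.bin hv.1 hvt.symm h3.symm hvd
    exact het (sub_eq_zero.1 (fix_zero hs ho F.ht F.hb F.ntb F.htb (AddSubgroup.sub_mem _ hdt he) hdb h4)).symm
  have P₃ : Pair V x v := ⟨hx.1, hv.1, hnc⟩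
  have hd3 : dt + da + db ∈ span2 V x v := by
    have : dt + da + db = (e + da) + ((dt - e) + db) := by abel
    rw [this]; exact AddSubgroup.add_mem_sup hxd hvd
  obtain ⟨y, hy, hyd⟩ := P₃.cover hs hd3 hd0
  exact ⟨y, ⟨hy.1, fun l hl => hy.2.1 ⟨(hin1 hx).2.1 hl, (hin2 hv).2.1 hl⟩,
    hy.2.2.trans (sup_le (hin1 hx).2.2 (hin2 hv).2.2)⟩, hyd⟩

theorem count (F : Frame V t a b) (hs : Setup H V p) (ho : ∀ x : V, x + x = 0 → x = 0) (Q : H → Prop)
    (A : AddSubgroup V) (hA : A ≤ span3 V t a b) (h1 : ∀ x, Inner V t a b x → Q x → im (V := V) x ≤ A)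
    (h2 : ∀ x, Inner V t a b x → ∀ d ∈ A, d ≠ 0 → d ∈ im x → Q x) :
    Nat.card {x : H // Inner V t a b x ∧ Q x} * (Nat.card (im (V := V) t) - 1) = Nat.card A - 1 := by
  have e : (Σ x : {x : H // Inner V t a b x ∧ Q x}, {d : im (V := V) x.1 // d ≠ 0}) ≃ {d : A // d ≠ 0} := by
    refine Equiv.ofBijective (fun s => ⟨⟨s.2.1.1, h1 s.1.1 s.1.2.1 s.1.2.2 s.2.1.2⟩,
      fun e0 => s.2.2 (Subtype.ext (congrArg Subtype.val e0 :))⟩) ⟨?_, ?_⟩
    · rintro ⟨⟨x, hx⟩, ⟨⟨d, hd⟩, hd0⟩⟩ ⟨⟨y, hy⟩, ⟨⟨d', hd'⟩, hd0'⟩⟩ he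
      simp only [Subtype.mk.injEq] at he
      subst he
      obtain rfl : x = y := hx.1.1.unique hs.bin hy.1.1 (fun e0 => hd0 (Subtype.ext e0)) hd hd'
      rfl
    · rintro ⟨⟨d, hd⟩, hd0⟩
      have hd0' : d ≠ 0 := fun e0 => hd0 (Subtype.ext e0)
      obtain ⟨u, hu, hdu⟩ := F.cover hs ho (hA hd) hd0'
      exact ⟨⟨⟨u, hu, h2 u hu d hd hd0' hdu⟩, ⟨⟨d, hdu⟩, fun e0 => hd0' (congrArg Subtype.val e0 :)⟩⟩, rfl⟩
  cases nonempty_fintype {x : H // Inner V t a b x ∧ Q x}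
  have h3 := Nat.card_congr e
  have h4 : ∀ x : {x : H // Inner V t a b x ∧ Q x},
      Nat.card {d : im (V := V) x.1 // d ≠ 0} = Nat.card (im (V := V) t) - 1 := fun x => by
    rw [card_ne_zero, x.2.1.1.card_im_eq F.ht]
  rw [Nat.card_sigma, card_ne_zero, Finset.sum_congr rfl (fun x _ => h4 x), Finset.sum_const,
    Finset.card_univ, ← Nat.card_eq_fintype_card, smul_eq_mul] at h3
  exact h3

/-- There is no frame. -/
theorem false (F : Frame V t a b) (hs : Setup H V p) (ho : ∀ x : V, x + x = 0 → x = 0) : False := by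
  classical
  haveI : Fact p.Prime := ⟨hs.prime⟩
  cases nonempty_fintype H
  let Y := span3 V t a b
  let q := Nat.card (im (V := V) t)
  have hq : 1 < q := one_lt_card_im F.ht.1
  have hY : Nat.card Y = q * q * q := F.card_span3 hs ho
  have hK : ∀ s, Inner V t a b s → Nat.card (fix s ⊓ Y : AddSubgroup V) = q * q := by
    intro s hs'
    have e : im s ⊔ (fix s ⊓ Y) = Y := by
      refine le_antisymm (sup_le hs'.2.2 inf_le_right) fun y hy => ?_
      obtain ⟨w, hw, f, hf, rfl⟩ := hs'.1.split hs ho y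
      exact AddSubgroup.add_mem_sup hw ⟨hf, by simpa using Y.sub_mem hy (hs'.2.2 hw)⟩
    have h1 : Nat.card (im s ⊔ (fix s ⊓ Y) : AddSubgroup V) = q * q * q := by rw [e]; exact hY
    rw [card_sup (fun z hz hz' => hs'.1.not_fix hs ho z hz (AddSubgroup.mem_inf.1 hz').1), hs'.1.card_im_eq F.ht, mul_assoc q] at h1
    exact Nat.eq_of_mul_eq_mul_left (by omega) h1
  have hrow : ∀ s, Inner V t a b s →
      Nat.card {x : H // Inner V t a b x ∧ (x ≠ s ∧ Commute x s)} = q + 1 := by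
    intro s hs'
    have h1 := F.count hs ho (fun x => x ≠ s ∧ Commute x s) (fix s ⊓ Y) inf_le_right
      (fun x hx hq' => le_inf (hs'.1.im_le_fix hs.bin hx.1 hq'.1.symm hq'.2.symm) hx.2.2)
      (fun x hx d hd hd0 hdx => ⟨fun e => hd0 (hs'.1.not_fix hs ho d (e ▸ hdx) hd.1),
        (hx.1.commute_of_fix hs.bin hd0 hdx (mem_fix.1 hd.1)).symm⟩)
    rw [hK s hs'] at h1
    refine Nat.eq_of_mul_eq_mul_right (show 0 < q - 1 by omega) (h1.trans ?_)
    obtain ⟨m, hm⟩ : ∃ m, q = m + 1 := ⟨q - 1, by omega⟩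
    rw [hm, Nat.add_sub_cancel]
    have : (m + 1) * (m + 1) = (m + 1 + 1) * m + 1 := by ring
    omega
  have hmeet : ∀ s s', Inner V t a b s → Inner V t a b s' → s ≠ s' →
      Nat.card {x : H // Inner V t a b x ∧ ((x ≠ s ∧ Commute x s) ∧ (x ≠ s' ∧ Commute x s'))} = 1 := by
    intro s s' h1 h2 hne
    let A := fix s ⊓ fix s' ⊓ Y
    have hle : ∀ x, Inner V t a b x → (x ≠ s ∧ Commute x s) ∧ (x ≠ s' ∧ Commute x s') → im (V := V) x ≤ A :=
      fun x hx hx' => le_inf (le_inf (h1.1.im_le_fix hs.bin hx.1 hx'.1.1.symm hx'.1.2.symm)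
        (h2.1.im_le_fix hs.bin hx.1 hx'.2.1.symm hx'.2.2.symm)) hx.2.2
    have hcnt := F.count hs ho _ A inf_le_right hle
      (fun x hx d hd hd0 hdx => ⟨⟨fun e => hd0 (h1.1.not_fix hs ho d (e ▸ hdx) hd.1.1),
        (hx.1.commute_of_fix hs.bin hd0 hdx (mem_fix.1 hd.1.1)).symm⟩,
        ⟨fun e => hd0 (h2.1.not_fix hs ho d (e ▸ hdx) hd.1.2),
        (hx.1.commute_of_fix hs.bin hd0 hdx (mem_fix.1 hd.1.2)).symm⟩⟩)
    have hAge : q ≤ Nat.card A := by
      let f : (fix s ⊓ Y : AddSubgroup V) →+ V := (disp s').comp (fix s ⊓ Y : AddSubgroup V).subtype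
      have k1 := AddSubgroup.card_mul_index f.ker
      rw [AddSubgroup.index_ker, hK s h1] at k1
      have k2 : Nat.card f.ker ≤ Nat.card A :=
        Nat.card_le_card_of_injective (fun z => ⟨z.1.1, ⟨z.1.2.1, (z.2 : disp s' z.1.1 = 0)⟩, z.1.2.2⟩)
          (fun x y hxy => Subtype.ext (Subtype.ext (show x.1.1 = y.1.1 from congrArg (fun z : A => (z : V)) hxy)))
      have k3 : Nat.card f.range ≤ q := (AddSubgroup.card_le_of_le (show f.range ≤ im s' by
        rintro _ ⟨z, rfl⟩; exact ⟨z.1, rfl⟩)).trans_eq (h2.1.card_im_eq F.ht)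
      nlinarith
    have hpos : 0 < Nat.card {x : H // Inner V t a b x ∧ ((x ≠ s ∧ Commute x s) ∧ (x ≠ s' ∧ Commute x s'))} := by
      rcases Nat.eq_zero_or_pos (Nat.card {x : H // Inner V t a b x ∧ ((x ≠ s ∧ Commute x s) ∧ (x ≠ s' ∧ Commute x s'))}) with h0 | h0
      · rw [h0, zero_mul] at hcnt; omega
      · exact h0
    refine le_antisymm ?_ hpos
    by_contra hgt
    push Not at hgt
    obtain ⟨⟨c, hc⟩, ⟨c', hc'⟩, hcc⟩ := (Finite.one_lt_card_iff_nontrivial.1 hgt).exists_pair_ne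
    have hbig : q * q ≤ Nat.card A := by
      have := card_mul_card_le (hle c hc.1 hc.2) (hle c' hc'.1 hc'.2)
        (hc.1.1.disjoint hs.bin hc'.1.1 fun e => hcc (Subtype.ext e))
      rwa [hc.1.1.card_im_eq F.ht, hc'.1.1.card_im_eq F.ht] at this
    have heq : A = fix s ⊓ Y := AddSubgroup.eq_of_le_of_card_ge (le_inf (inf_le_left.trans inf_le_left) inf_le_right)
      (by rw [hK s h1]; exact hbig)
    have hfix : fix (V := V) s ≤ fix s' := by
      intro z hz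
      obtain ⟨y, hy, l, hl, rfl⟩ := F.exists_add hs ho z
      have hyA : y ∈ A := heq ▸ ⟨by simpa using (fix (V := V) s).sub_mem hz (h1.2.1 hl), hy⟩
      exact (fix (V := V) s').add_mem hyA.1.2 (h2.2.1 hl)
    by_cases hg : s * s' = 1
    · exact hne (by rw [← (h1.1.inv hs.bin).2, inv_eq_of_mul_eq_one_right hg])
    have hf : fix (V := V) s ≤ fix (s * s') := fun z hz => by
      rw [mem_fix, mul_smul, mem_fix.1 (hfix hz), mem_fix.1 hz]
    have hge := h1.1.fix_eq hg hf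
    have hmin : Min V (s * s') := by
      refine h1.1.of_card_le hg (le_of_eq ?_)
      have k1 := card_im_mul_card_fix (V := V) (s * s')
      rw [← hge, ← card_im_mul_card_fix (V := V) s] at k1
      exact Nat.eq_of_mul_eq_mul_right Nat.card_pos k1
    have hcomm : Commute s s' := by
      have k := (hmin.inv hs.bin).2
      rw [mul_inv_rev, (h1.1.inv hs.bin).2, (h2.1.inv hs.bin).2] at k
      exact k.symm
    obtain ⟨w, hw, hw0⟩ := h2.1.exists_ne
    exact hw0 (h2.1.not_fix hs ho w hw (hfix (h1.1.im_le_fix hs.bin h2.1 hne hcomm hw)))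
  -- the incidence matrix
  let N := {x : H // Inner V t a b x}
  let A : Matrix N N (ZMod p) := Matrix.of fun i j => if j.1 ≠ i.1 ∧ Commute j.1 i.1 then 1 else 0
  let J : Matrix N N (ZMod p) := Matrix.of fun _ _ => 1
  have hqp : (q : ZMod p) = 0 := (ZMod.natCast_eq_zero_iff _ _).2 (dvd_card_im hs F.ht)
  have hsum : ∀ (Q : H → Prop) {dec : ∀ j : N, Decidable (Q j.1)},
      (∑ j : N, @ite _ (Q j.1) (dec j) (1 : ZMod p) 0) =
      (Nat.card {x : H // Inner V t a b x ∧ Q x} : ZMod p) := by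
    intro Q dec
    rw [Finset.sum_boole, Nat.card_eq_fintype_card, ← Fintype.card_subtype]
    congr 1
    exact Fintype.card_congr (Equiv.subtypeSubtypeEquivSubtypeInter (Inner V t a b) Q)
  have hAJ : A * J = J := by
    ext i k
    rw [Matrix.mul_apply]
    simp only [A, J, Matrix.of_apply, mul_one]
    refine (hsum (fun x => x ≠ i.1 ∧ Commute x i.1)).trans ?_
    rw [hrow i.1 i.2, Nat.cast_add, hqp, zero_add, Nat.cast_one]
  have hAA : A * A = J := by
    ext i k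
    rw [Matrix.mul_apply]
    simp only [A, J, Matrix.of_apply]
    rw [Finset.sum_congr rfl (fun j _ => show ((if j.1 ≠ i.1 ∧ Commute j.1 i.1 then (1 : ZMod p) else 0) *
        if k.1 ≠ j.1 ∧ Commute k.1 j.1 then 1 else 0) =
          if ((j.1 ≠ i.1 ∧ Commute j.1 i.1) ∧ (j.1 ≠ k.1 ∧ Commute j.1 k.1)) then 1 else 0 by
      rw [ite_zero_mul_ite_zero, mul_one]
      exact if_congr (and_congr Iff.rfl (and_congr ne_comm ⟨Commute.symm, Commute.symm⟩)) rfl rfl)]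
    refine (hsum (fun x => (x ≠ i.1 ∧ Commute x i.1) ∧ (x ≠ k.1 ∧ Commute x k.1))).trans ?_
    by_cases hik : i = k
    · subst hik
      simp only [and_self]
      rw [hrow i.1 i.2, Nat.cast_add, hqp, zero_add, Nat.cast_one]
    · rw [hmeet i.1 k.1 i.2 k.2 (fun e => hik (Subtype.ext e)), Nat.cast_one]
  have hpow : ∀ n, A ^ (n + 2) = J := by
    intro n
    induction n with
    | zero => rw [pow_two, hAA]
    | succ n ih => rw [pow_succ', ih, hAJ]
  obtain ⟨n, hn⟩ : ∃ n, p = n + 2 := ⟨p - 2, (Nat.sub_add_cancel hs.prime.two_le).symm⟩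
  have htr : Matrix.trace A = 0 := Finset.sum_eq_zero fun i _ => if_neg fun h => h.1 rfl
  have htrJ : Matrix.trace J = (Nat.card N : ZMod p) := by
    simp [Matrix.trace, Matrix.diag, J, Nat.card_eq_fintype_card]
  have h0 := ZMod.trace_pow_card A
  rw [htr, zero_pow hs.prime.ne_zero] at h0
  have hp' : A ^ p = J := by have := hpow n; rwa [← hn] at this
  rw [hp', htrJ] at h0
  have hN := F.count hs ho (fun _ => True) Y le_rfl (fun x hx _ => hx.2.2) (fun _ _ _ _ _ _ => trivial)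
  have hNc : Nat.card {x : H // Inner V t a b x ∧ True} = Nat.card N :=
    Nat.card_congr (Equiv.subtypeEquivRight fun x => and_iff_left trivial)
  rw [hNc, hY] at hN
  have hN' := congrArg (Nat.cast : ℕ → ZMod p) hN
  have hq1 : 1 ≤ q * q * q := Nat.mul_pos (Nat.mul_pos (by omega) (by omega)) (by omega)
  rw [Nat.cast_mul, h0, zero_mul, Nat.cast_sub hq1, Nat.cast_mul, Nat.cast_mul, hqp, Nat.cast_one] at hN'
  simp at hN'

end Frame

end H48.BinAff
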