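import Cfsg.Agent.H48.BinAff.Count

/-!
# Binary affine groups: existence of pairs and of outer members
-/

set_option autoImplicit false
set_option linter.unusedSectionVars false

namespace H48.BinAff

variable {H V : Type*} [Group H] [Finite H] [AddCommGroup V] [DistribMulAction H V] [FaithfulSMul H V] [Finite V]

variable {p : ℕ}

/-- A family of subgroups permuted by `H` has an invariant sum. -/
theorem smul_mem_iSup {ι : Type*} (A : ι → AddSubgroup V) (hA : ∀ (γ : H) (i : ι), ∀ a ∈ A i, γ • a ∈ ⨆ j, A j)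
    (γ : H) {a : V} (ha : a ∈ ⨆ j, A j) : γ • a ∈ ⨆ j, A j := by
  refine AddSubgroup.iSup_induction A (C := fun z => γ • z ∈ ⨆ j, A j) ha (fun i z hz => hA γ i z hz) ?_ ?_
  · rw [smul_zero]; exact AddSubgroup.zero_mem _
  · intro x y hx hy; rw [smul_add]; exact AddSubgroup.add_mem _ hx hy

set_option maxHeartbeats 1600000 in
/-- Unless a minimal element fixes nothing, some two minimal elements do not commute. -/
theorem exists_pair (hs : Setup H V p) (hirr : Irr H V) {h : H} (hh : Min V h) (hK : fix (V := V) h ≠ ⊥) :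
    ∃ h' t : H, Pair V h' t := by
  by_contra hc
  have hcomm : ∀ {a b : H}, Min V a → Min V b → Commute a b := fun {a b} ha hb' => by
    by_contra hn; exact hc ⟨a, b, ha, hb', hn⟩
  have hlt : Nat.card (im (V := V) h) < Nat.card V := by
    rw [← card_im_mul_card_fix (V := V) h]
    refine lt_mul_of_one_lt_right Nat.card_pos ?_
    exact Finite.one_lt_card_iff_nontrivial.2 ((AddSubgroup.nontrivial_iff_ne_bot _).2 hK)
  rcases hs.two_or_odd with he | ho
  · have hinv : ∀ (γ : H) (x : {x : H // Min V x}), ∀ a ∈ im (V := V) x.1, γ • a ∈ ⨆ y : {x : H // Min V x}, im (V := V) y.1 :=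
      fun γ x a ha => AddSubgroup.mem_iSup_of_mem ⟨γ * x.1 * γ⁻¹, x.2.conj γ⟩ (mem_im_conj ha)
    have hle : (⨆ y : {x : H // Min V x}, im (V := V) y.1) ≤ fix h := by
      refine iSup_le fun y => ?_
      by_cases e : y.1 = h
      · intro a ha
        rw [e] at ha
        rw [mem_fix, hh.neg hs.bin ha, neg_eq_iff_add_eq_zero]; exact he a
      · exact hh.im_le_fix hs.bin y.2 (Ne.symm e) (hcomm hh y.2)
    rcases hirr (⨆ y : {x : H // Min V x}, im (V := V) y.1)
        (fun γ a ha => smul_mem_iSup (fun y : {x : H // Min V x} => im (V := V) y.1) hinv γ ha) with h0 | h0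
    · have := le_iSup (fun y : {x : H // Min V x} => im (V := V) y.1) ⟨h, hh⟩
      rw [h0, le_bot_iff] at this
      have h1 := one_lt_card_im (V := V) hh.1
      rw [this, AddSubgroup.card_bot] at h1
      exact lt_irrefl _ h1
    · exact hh.1 (eq_one_of_fix_top fun x => mem_fix.1 (hle (h0 ▸ AddSubgroup.mem_top x)))
  · -- some conjugate of `h` differs from `h`
    obtain ⟨g, hg⟩ : ∃ g : H, g * h * g⁻¹ ≠ h := by
      by_contra hg
      push Not at hg
      have h1 := one_lt_card_im (V := V) hh.1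
      rcases hirr (im h) (fun γ a ha => hg γ ▸ mem_im_conj ha) with h0 | h0
      · rw [h0, AddSubgroup.card_bot] at h1; exact lt_irrefl _ h1
      · rw [h0, AddSubgroup.card_top] at hlt; exact lt_irrefl _ hlt
    have h2min := hh.conj g
    have hc2 := hcomm hh h2min
    have hK1 := hh.im_le_fix hs.bin h2min hg.symm hc2
    have hK2 := h2min.im_le_fix hs.bin hh hg hc2.symm
    obtain ⟨y, hy, hy0⟩ : ∃ y ∈ im (V := V) h, y ≠ 0 := by
      obtain ⟨y, hy⟩ := Finite.one_lt_card_iff_nontrivial.1 (one_lt_card_im (V := V) hh.1) |>.exists_pair_ne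
      obtain ⟨y', hy'⟩ := hy
      rcases eq_or_ne y 0 with e | e
      · exact ⟨y'.1, y'.2, fun e' => hy' (e.trans (Subtype.ext e'.symm))⟩
      · exact ⟨y.1, y.2, fun e' => e (Subtype.ext e')⟩
    have hgy : g • y ∈ im (g * h * g⁻¹) := mem_im_conj hy
    have hd12 := hh.disjoint hs.bin h2min hg.symm
    let W := im (V := V) h ⊔ im (g * h * g⁻¹)
    let C := fix (V := V) h ⊓ fix (g * h * g⁻¹)
    have hcard : Nat.card W = Nat.card (im (V := V) h) * Nat.card (im (V := V) h) := by
      rw [card_sup hd12, hh.card_im_eq h2min]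
    have hWC : ∀ v ∈ W, v ∈ C → v = 0 := by
      intro v hv hvC
      obtain ⟨a, ha, b, hb', rfl⟩ := AddSubgroup.mem_sup.1 hv
      have h1 : a + b ∈ fix (V := V) h := hvC.1
      have h2 : a + b ∈ fix (V := V) (g * h * g⁻¹) := hvC.2
      rw [mem_fix, smul_add, hh.neg hs.bin ha, mem_fix.1 (hK1 hb'), add_left_inj, neg_eq_iff_add_eq_zero] at h1
      rw [ho a h1, zero_add, mem_fix, h2min.neg hs.bin hb', neg_eq_iff_add_eq_zero] at h2
      rw [ho a h1, ho b h2, add_zero]
    -- halving inside `W`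
    obtain ⟨x₀, hx₀W, hx₀⟩ : ∃ x₀ ∈ W, x₀ + x₀ = y - g • y := by
      have hinj : Function.Injective (fun z : W => z + z) := fun a b hab => by
        have hab' : a.1 + a.1 = b.1 + b.1 := congrArg Subtype.val hab
        refine Subtype.ext (sub_eq_zero.1 (ho _ ?_))
        rw [← sub_eq_zero] at hab'
        rw [← hab']; abel
      obtain ⟨z, hz⟩ := Finite.surjective_of_injective hinj ⟨y - g • y, W.sub_mem (AddSubgroup.mem_sup_left hy) (AddSubgroup.mem_sup_right hgy)⟩
      exact ⟨z.1, z.2, congrArg Subtype.val hz⟩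
    let d := g • y - y
    have hd0 : d ≠ 0 := fun e => hy0 (hd12 y hy (by rwa [sub_eq_zero.1 e] at hgy))
    have hk : (h * (g * h * g⁻¹)) • x₀ = x₀ + d := by
      obtain ⟨a, ha, b, hb', rfl⟩ := AddSubgroup.mem_sup.1 hx₀W
      rw [mul_smul, smul_add, mem_fix.1 (hK2 ha), h2min.neg hs.bin hb', smul_add, hh.neg hs.bin ha, smul_neg,
        mem_fix.1 (hK1 hb')]
      rw [← sub_eq_zero]
      rw [← sub_eq_zero] at hx₀
      rw [← neg_eq_zero, ← hx₀]
      simp only [d]
      abel
    have hgy' : g • y = y + d := by simp only [d]; abel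
    have hud := com_ne_one hs.bin hd0 hgy'
    have huy : com hs.bin d • y = g • y := by rw [com_spec hs.bin hgy', ← hgy']
    have hufix : com hs.bin d • (y + g • y) = y + g • y := by
      have h1 := com_fix_sub hs.bin hgy' hk
      have e : (y - x₀) + (y - x₀) = y + g • y := by
        rw [show (y - x₀) + (y - x₀) = (y + y) - (x₀ + x₀) by abel, hx₀]; abel
      rw [← e, smul_add, h1]
    have hugy : com hs.bin d • g • y = y := by
      rw [smul_add, huy] at hufix
      rw [← add_right_inj (g • y), hufix, add_comm]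
    have hswap : ∀ {a b : H}, Min V a → Min V b → ∀ z ∈ im (V := V) a, z ≠ 0 → com hs.bin d • z ∈ im b →
        ∀ w ∈ im (V := V) a, com hs.bin d • w ∈ im b := by
      intro a b ha hb'' z hz hz0 hzb w hw
      have e := (ha.conj (com hs.bin d)).unique hs.bin hb'' (fun e0 => hz0 ((smul_eq_zero_iff_eq _).1 e0))
        (mem_im_conj hz) hzb
      exact e ▸ mem_im_conj hw
    have hu12 := hswap hh h2min y hy hy0 (huy.symm ▸ hgy)
    have hu21 := hswap h2min hh (g • y) hgy (fun e0 => hy0 ((smul_eq_zero_iff_eq _).1 e0)) (hugy.symm ▸ hy)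
    have hle : im (V := V) (com hs.bin d) ≤ W := by
      rintro _ ⟨x, rfl⟩
      have htop : W ⊔ C = ⊤ := by
        refine sup_eq_top hWC ?_
        rw [hcard]
        let f : fix (V := V) h →+ V := (disp (g * h * g⁻¹)).comp (fix (V := V) h).subtype
        have h1 := AddSubgroup.card_mul_index f.ker
        rw [AddSubgroup.index_ker] at h1
        have h2 : Nat.card f.ker ≤ Nat.card C :=
          Nat.card_le_card_of_injective (fun a => ⟨a.1.1, a.1.2, (a.2 : disp _ a.1.1 = 0)⟩)
            (fun a b hab => Subtype.ext (Subtype.ext (show a.1.1 = b.1.1 from congrArg (fun z : C => (z : V)) hab)))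
        have h3 : Nat.card f.range ≤ Nat.card (im (V := V) (g * h * g⁻¹)) :=
          AddSubgroup.card_le_of_le (by rintro _ ⟨a, rfl⟩; exact ⟨a.1, rfl⟩)
        rw [← card_im_mul_card_fix (V := V) h, ← h1, mul_assoc, mul_comm (Nat.card f.ker)]
        exact Nat.mul_le_mul_left _ (Nat.mul_le_mul (h3.trans_eq (h2min.card_im_eq hh)) h2)
      obtain ⟨w, hw, c, hc', rfl⟩ := AddSubgroup.mem_sup.1 (htop ▸ AddSubgroup.mem_top x)
      have hcu : c ∈ fix (V := V) (com hs.bin d) := by
        refine fix_le_com hs.bin hk ?_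
        rw [mem_fix, mul_smul, mem_fix.1 hc'.2, mem_fix.1 hc'.1]
      rw [disp_apply, smul_add, mem_fix.1 hcu, add_sub_add_right_eq_sub]
      refine W.sub_mem ?_ hw
      obtain ⟨a, ha, b, hb', rfl⟩ := AddSubgroup.mem_sup.1 hw
      rw [smul_add]
      exact W.add_mem (AddSubgroup.mem_sup_right (hu12 a ha)) (AddSubgroup.mem_sup_left (hu21 b hb'))
    have hdis : ∀ z ∈ im (V := V) (com hs.bin d), z ∈ im h → z = 0 := by
      intro z hz hzh
      by_contra hz0
      have h1 := mem_fix.1 (hh.fix_le_of_inter hs.bin hz0 hzh hz (mem_fix.2 hufix))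
      rw [smul_add, hh.neg hs.bin hy, mem_fix.1 (hK1 hgy), add_left_inj, neg_eq_iff_add_eq_zero] at h1
      exact hy0 (ho y h1)
    have hc' := card_mul_card_le hle le_sup_left hdis
    rw [hcard] at hc'
    have humin : Min V (com hs.bin d) := hh.of_card_le hud (Nat.le_of_mul_le_mul_right hc' Nat.card_pos)
    have hcu := hcomm humin hh
    have hmem : com hs.bin d • y ∈ im h := by
      have e := mem_im_conj (γ := com hs.bin d) hy
      rwa [show com hs.bin d * h * (com hs.bin d)⁻¹ = h by rw [hcu.eq, mul_inv_cancel_right]] at e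
    rw [huy] at hmem
    exact hy0 ((smul_eq_zero_iff_eq g).1 (hd12 _ hmem hgy))

namespace Pair

variable {h t : H}

/-- A proper spread is linked to a member outside it. -/
theorem exists_outer (P : Pair V h t) (hs : Setup H V p) (hirr : Irr H V) (hL : fix2 V h t ≠ ⊥) :
    ∃ v x, Min V v ∧ Mem V h t x ∧ ¬ Commute v x ∧ ¬ im (V := V) v ≤ span2 V h t := by
  by_contra hc
  have hcomm : ∀ {v x : H}, Min V v → Mem V h t x → ¬ im (V := V) v ≤ span2 V h t → Commute v x :=
    fun {v x} hv hx hne => by by_contra hn; exact hc ⟨v, x, hv, hx, hn, hne⟩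
  have hout : ∀ {v : H}, Min V v → ¬ im (V := V) v ≤ span2 V h t → im (V := V) v ≤ fix2 V h t := by
    intro v hv hne
    refine le_inf (P.hh.im_le_fix hs.bin hv ?_ (hcomm hv P.mem_left hne).symm)
      (P.ht.im_le_fix hs.bin hv ?_ (hcomm hv P.mem_right hne).symm)
    · rintro rfl; exact hne le_sup_left
    · rintro rfl; exact hne le_sup_right
  -- every translate of the span is inside it or fixed
  have hdich : ∀ g : H, (∀ a ∈ span2 V h t, g • a ∈ span2 V h t) ∨ (∀ a ∈ span2 V h t, g • a ∈ fix2 V h t) := by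
    intro g
    have hone : ∀ {x : H}, Mem V h t x → (∀ a ∈ im (V := V) x, g • a ∈ span2 V h t) ∨ (∀ a ∈ im (V := V) x, g • a ∈ fix2 V h t) := by
      intro x hx
      by_cases hle : im (V := V) (g * x * g⁻¹) ≤ span2 V h t
      · exact Or.inl fun a ha => hle (mem_im_conj ha)
      · exact Or.inr fun a ha => hout (hx.1.conj g) hle (mem_im_conj ha)
    have hgen : ∀ {x y : H}, Mem V h t x → Mem V h t y → x ≠ y → ∀ S : AddSubgroup V,
        (∀ a ∈ im (V := V) x, g • a ∈ S) → (∀ a ∈ im (V := V) y, g • a ∈ S) → ∀ a ∈ span2 V h t, g • a ∈ S := by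
      intro x y hx hy hne S h1 h2 a ha
      have e : im (V := V) x ⊔ im y = span2 V h t := AddSubgroup.eq_of_le_of_card_ge (sup_le hx.2.2 hy.2.2)
        (le_of_eq (by rw [P.card_span hs, card_sup (hx.1.disjoint hs.bin hy.1 hne), hx.1.card_im_eq P.hh,
          hy.1.card_im_eq P.hh]))
      rw [← e] at ha
      obtain ⟨u, hu, w, hw, rfl⟩ := AddSubgroup.mem_sup.1 ha
      rw [smul_add]
      exact S.add_mem (h1 u hu) (h2 w hw)
    obtain ⟨z, hz, hzh, hzt⟩ := P.exists_third hs
    rcases hone P.mem_left with a1 | a1 <;> rcases hone P.mem_right with a2 | a2 <;> rcases hone hz with a3 | a3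
    · exact Or.inl (hgen P.mem_left P.mem_right P.ne _ a1 a2)
    · exact Or.inl (hgen P.mem_left P.mem_right P.ne _ a1 a2)
    · exact Or.inl (hgen P.mem_left hz hzh.symm _ a1 a3)
    · exact Or.inr (hgen P.mem_right hz hzt.symm _ a2 a3)
    · exact Or.inl (hgen P.mem_right hz hzt.symm _ a2 a3)
    · exact Or.inr (hgen P.mem_left hz hzh.symm _ a1 a3)
    · exact Or.inr (hgen P.mem_left P.mem_right P.ne _ a1 a2)
    · exact Or.inr (hgen P.mem_left P.mem_right P.ne _ a1 a2)
  obtain ⟨y, hy, hy0⟩ : ∃ y ∈ span2 V h t, y ≠ 0 := by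
    by_contra hc'
    push Not at hc'
    have h1 := one_lt_card_im (V := V) P.hh.1
    rw [(AddSubgroup.eq_bot_iff_forall _).2 fun z hz => hc' z (AddSubgroup.mem_sup_left hz), AddSubgroup.card_bot] at h1
    exact lt_irrefl _ h1
  -- some translate is fixed
  obtain ⟨g, hg⟩ : ∃ g : H, ∀ a ∈ span2 V h t, g • a ∈ fix2 V h t := by
    by_contra hc'
    push Not at hc'
    have hinv : ∀ g : H, ∀ a ∈ span2 V h t, g • a ∈ span2 V h t := fun g => by
      rcases hdich g with h1 | h1
      · exact h1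
      · obtain ⟨a, ha, hna⟩ := hc' g; exact absurd (h1 a ha) hna
    rcases hirr _ hinv with h0 | h0
    · exact hy0 ((AddSubgroup.mem_bot).1 (h0 ▸ hy))
    · exact hL ((AddSubgroup.eq_bot_iff_forall _).2 fun l hl => P.span_inter_fix hs l (h0 ▸ AddSubgroup.mem_top l) hl)
  have hDg : ∀ a ∈ span2 V h t, a ∈ fix (V := V) (g * (h * t) * g⁻¹) := by
    have key : ∀ {x : H}, Mem V h t x → im (V := V) x ≤ fix (g * h * g⁻¹) ∧ im (V := V) x ≤ fix (g * t * g⁻¹) := by
      intro x hx
      have k : ∀ {w : H}, Mem V h t w → im (V := V) x ≤ fix (g * w * g⁻¹) := by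
        intro w hw
        have hnle : ¬ im (V := V) (g * w * g⁻¹) ≤ span2 V h t := by
          intro hle
          obtain ⟨a, ha⟩ := Finite.one_lt_card_iff_nontrivial.1 (one_lt_card_im (V := V) hw.1.1) |>.exists_pair_ne
          obtain ⟨b, hab⟩ := ha
          refine hab (Subtype.ext (MulAction.injective g ?_))
          show g • a.1 = g • b.1
          rw [P.span_inter_fix hs _ (hle (mem_im_conj a.2)) (hg _ (hw.2.2 a.2)),
            P.span_inter_fix hs _ (hle (mem_im_conj b.2)) (hg _ (hw.2.2 b.2))]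
        refine (hw.1.conj g).im_le_fix hs.bin hx.1 ?_ (hcomm (hw.1.conj g) hx hnle)
        intro e; exact hnle (e ▸ hx.2.2)
      exact ⟨k P.mem_left, k P.mem_right⟩
    intro a ha
    obtain ⟨u, hu, w, hw, rfl⟩ := AddSubgroup.mem_sup.1 ha
    rw [mem_fix, show g * (h * t) * g⁻¹ = (g * h * g⁻¹) * (g * t * g⁻¹) by group]
    simp only [smul_add, mul_smul (g * h * g⁻¹) (g * t * g⁻¹)]
    rw [mem_fix.1 ((key P.mem_left).2 hu), mem_fix.1 ((key P.mem_left).1 hu), mem_fix.1 ((key P.mem_right).2 hw),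
      mem_fix.1 ((key P.mem_right).1 hw)]
  let d := g • y - y
  have hgy : g • y = y + d := by simp only [d]; abel
  have hd0 : d ≠ 0 := fun e => hy0 (P.span_inter_fix hs y hy (sub_eq_zero.1 e ▸ hg y hy))
  obtain ⟨a, ha, hka⟩ := P.exists_sol hs (AddSubgroup.neg_mem _ hy)
  obtain ⟨b₀, hb₀, hkb₀⟩ := P.exists_sol hs hy
  have hkb : (g * (h * t) * g⁻¹) • (g • b₀) = g • b₀ + g • y := by
    rw [mul_smul, mul_smul, inv_smul_smul, hkb₀, smul_add]
  have hfixk : ∀ l ∈ fix2 V h t, (h * t) • l = l := fun l hl => mem_fix.1 (P.fix_mul hs ▸ hl)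
  have hfixk' : ∀ l ∈ fix2 V h t, (h * t)⁻¹ • l = l := fun l hl => by rw [inv_smul_eq_iff, hfixk l hl]
  have hbL : g • b₀ + g • y ∈ fix2 V h t := AddSubgroup.add_mem _ (hg b₀ hb₀) (hg y hy)
  have hs1 : ((h * t) * (g * (h * t) * g⁻¹)) • (a + g • b₀) = (a + g • b₀) + d := by
    rw [mul_smul, smul_add, mem_fix.1 (hDg a ha), hkb, smul_add, hka, hfixk _ hbL]
    simp only [d]; abel
  have ha' : -a - (-y) ∈ span2 V h t := AddSubgroup.sub_mem _ (AddSubgroup.neg_mem _ ha) (AddSubgroup.neg_mem _ hy)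
  have hs2 : ((h * t)⁻¹ * (g * (h * t) * g⁻¹)) • ((-a - (-y)) + g • b₀) = ((-a - (-y)) + g • b₀) + d := by
    rw [mul_smul, smul_add, mem_fix.1 (hDg _ ha'), hkb, smul_add, inv_sol hka, hfixk' _ hbL]
    simp only [d]; abel
  have hδ : com hs.bin d • (a + a + -y) = a + a + -y := by
    have := com_fix_sub hs.bin hs1 hs2
    rwa [add_sub_add_right_eq_sub, show a - (-a - -y) = a + a + -y by abel] at this
  have hny : -y ≠ 0 := fun e => hy0 (neg_eq_zero.1 e)
  have hδnot := (P.com_strict hs (AddSubgroup.neg_mem _ hy) hny hka).2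
  have hδD : a + a + -y ∈ span2 V h t := AddSubgroup.add_mem _ (AddSubgroup.add_mem _ ha ha) (AddSubgroup.neg_mem _ hy)
  rcases hdich (com hs.bin d) with h1 | h1
  · have := h1 y hy
    rw [com_spec hs.bin hgy, ← hgy] at this
    exact hy0 ((smul_eq_zero_iff_eq g).1 (P.span_inter_fix hs _ this (hg y hy)))
  · exact hδnot (hδ ▸ h1 _ hδD)

end Pair

end H48.BinAff
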