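import Cfsg.Agent.H48.BinAff.Min

/-!
# Binary affine groups: two non-commuting minimal elements
-/

set_option autoImplicit false
set_option linter.unusedSectionVars false
set_option linter.style.haveILetI false

namespace H48.BinAff

variable {H V : Type*} [Group H] [Finite H] [AddCommGroup V] [DistribMulAction H V] [FaithfulSMul H V] [Finite V]

/-! ### Odd exponent: averaging -/

/-- In odd exponent no element has a fixed displacement. -/
theorem eq_zero_of_im_fix (hb : Bin H V) (ho : ∀ x : V, x + x = 0 → x = 0) {g : H} {d : V}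
    (h1 : d ∈ im g) (h2 : g • d = d) : d = 0 := by
  obtain ⟨x, hx⟩ := mem_im.1 h1
  have h3 := mem_fix.1 (fix_le_com hb hx (mem_fix.2 h2))
  rw [com_neg hb hx, neg_eq_iff_add_eq_zero] at h3
  exact ho d h3

theorem not_dvd_card (hb : Bin H V) (ho : ∀ x : V, x + x = 0 → x = 0) {p : ℕ} (hp : p.Prime)
    (hpV : ∀ x : V, p • x = 0) : ¬ p ∣ Nat.card H := by
  intro hdvd
  haveI : Fact p.Prime := ⟨hp⟩
  cases nonempty_fintype H
  obtain ⟨g, hg⟩ := exists_prime_orderOf_dvd_card' (G := H) p hdvd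
  have hgp : IsPGroup p (Subgroup.zpowers g) :=
    IsPGroup.of_card (n := 1) (by rw [Nat.card_zpowers, hg, pow_one])
  have hinv : ∀ (a : Subgroup.zpowers g) (w : V), w ∈ im g → (a : H) • w ∈ im g := by
    rintro ⟨a, i, rfl⟩ w hw
    have := mem_im_conj (γ := g ^ i) hw
    rwa [((Commute.refl g).zpow_left i).eq, mul_inv_cancel_right] at this
  letI : MulAction (Subgroup.zpowers g) (im (V := V) g) :=
    { smul := fun a w => ⟨(a : H) • w.1, hinv a w.1 w.2⟩
      one_smul := fun w => Subtype.ext (one_smul H w.1)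
      mul_smul := fun a b w => Subtype.ext (mul_smul (a : H) (b : H) w.1) }
  have hdvd' : p ∣ Nat.card (im (V := V) g) := by
    have hne : ∃ w : im (V := V) g, w ≠ 0 := by
      by_contra hc
      push Not at hc
      have hg1 : g = 1 := eq_one_of_fix_top fun x =>
        sub_eq_zero.1 (congrArg Subtype.val (hc ⟨_, smul_sub_mem_im g x⟩))
      rw [hg1, orderOf_one] at hg
      exact hp.one_lt.ne hg
    obtain ⟨w, hw⟩ := hne
    have ho' : addOrderOf w = p := addOrderOf_eq_prime (Subtype.ext (hpV w.1)) hw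
    exact ho' ▸ addOrderOf_dvd_natCard w
  have hz : (0 : im (V := V) g) ∈ MulAction.fixedPoints (Subgroup.zpowers g) (im (V := V) g) :=
    fun a => Subtype.ext (smul_zero (a : H))
  obtain ⟨w, hw, hne⟩ := hgp.exists_fixed_point_of_prime_dvd_card_of_fixed_point _ hdvd' hz
  exact hne (Subtype.ext (eq_zero_of_im_fix hb ho w.2 (congrArg Subtype.val (hw ⟨g, Subgroup.mem_zpowers g⟩))).symm)

/-- The subgroup spanned by the displacements of a subgroup meets its fixed vectors trivially. -/
theorem eq_zero_of_mem_sup_im {p : ℕ} (hp : p.Prime) (hpV : ∀ x : V, p • x = 0) (hcop : ¬ p ∣ Nat.card H)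
    (M : Subgroup H) {v : V} (h1 : v ∈ ⨆ m : M, im (V := V) (m : H)) (h2 : ∀ m : M, (m : H) • v = v) : v = 0 := by
  cases nonempty_fintype M
  let Φ : V →+ V := ∑ m : M, DistribSMul.toAddMonoidHom V (m : H)
  have hΦ : ∀ z : V, Φ z = ∑ m : M, (m : H) • z := fun z => by
    simp [Φ, AddMonoidHom.finsetSum_apply]
  have hker : (⨆ m : M, im (V := V) (m : H)) ≤ Φ.ker := by
    refine iSup_le fun m => ?_
    rintro d ⟨x, rfl⟩
    rw [AddMonoidHom.mem_ker, disp_apply, map_sub, hΦ, hΦ, sub_eq_zero]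
    simp only [← mul_smul, ← Subgroup.coe_mul]
    exact Fintype.sum_equiv (Equiv.mulRight m) _ _ (fun i => rfl)
  have h3 : Nat.card M • v = 0 := by
    have := hker h1
    rw [AddMonoidHom.mem_ker, hΦ] at this
    simpa [h2, Nat.card_eq_fintype_card] using this
  have h4 : addOrderOf v ∣ p := addOrderOf_dvd_of_nsmul_eq_zero (hpV v)
  rcases (Nat.dvd_prime hp).1 h4 with h | h
  · exact AddMonoid.addOrderOf_eq_one_iff.1 h
  · exact absurd ((h ▸ addOrderOf_dvd_of_nsmul_eq_zero h3).trans M.card_subgroup_dvd_card) hcop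

/-- The pointwise stabiliser of a subgroup of `V`. -/
def fixer (L : AddSubgroup V) : Subgroup H where
  carrier := {g | ∀ l ∈ L, g • l = l}
  one_mem' l _hl := one_smul H l
  mul_mem' {a b} ha hb l hl := by rw [mul_smul, hb l hl, ha l hl]
  inv_mem' {a} ha l hl := by rw [inv_smul_eq_iff, ha l hl]

theorem mem_fixer {L : AddSubgroup V} {g : H} : g ∈ fixer (H := H) L ↔ L ≤ fix g :=
  ⟨fun h l hl => mem_fix.2 (h l hl), fun h l hl => mem_fix.1 (h hl)⟩

/-! ### Pairs -/

/-- The hypotheses on two minimal elements which do not commute. -/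
structure Pair (V : Type*) [AddCommGroup V] [DistribMulAction H V] (h t : H) : Prop where
  hh : Min V h
  ht : Min V t
  nc : ¬ Commute h t

/-- The sum of the displacement groups of a pair. -/
abbrev span2 (V : Type*) [AddCommGroup V] [DistribMulAction H V] (h t : H) : AddSubgroup V := im h ⊔ im t

/-- The common fixed vectors of a pair. -/
abbrev fix2 (V : Type*) [AddCommGroup V] [DistribMulAction H V] (h t : H) : AddSubgroup V := fix h ⊓ fix t

/-- The standing hypotheses. -/
structure Setup (H V : Type*) [Group H] [AddCommGroup V] [DistribMulAction H V] (p : ℕ) : Prop where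
  bin : Bin H V
  prime : p.Prime
  exp : ∀ x : V, p • x = 0

theorem Setup.two_or_odd {p : ℕ} (hs : Setup H V p) :
    (∀ x : V, x + x = 0) ∨ (∀ x : V, x + x = 0 → x = 0) := by
  by_cases h2 : p = 2
  · exact Or.inl fun x => by rw [← two_nsmul, ← h2]; exact hs.exp x
  · refine Or.inr fun x hx => ?_
    rcases (Nat.dvd_prime hs.prime).1 (addOrderOf_dvd_of_nsmul_eq_zero (hs.exp x)) with h | h
    · exact AddMonoid.addOrderOf_eq_one_iff.1 h
    · have h' : addOrderOf x ∣ 2 := addOrderOf_dvd_of_nsmul_eq_zero (by rw [two_nsmul]; exact hx)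
      rw [h] at h'
      exact absurd ((Nat.prime_dvd_prime_iff_eq hs.prime Nat.prime_two).1 h') h2

namespace Pair

variable {p : ℕ} {h t : H}

theorem ne (P : Pair V h t) : h ≠ t := fun e => P.nc (e ▸ Commute.refl h)

theorem symm (P : Pair V h t) : Pair V t h := ⟨P.ht, P.hh, fun c => P.nc c.symm⟩

theorem card_span (P : Pair V h t) (hs : Setup H V p) :
    Nat.card (span2 V h t) = Nat.card (im (V := V) h) * Nat.card (im (V := V) h) := by
  rw [card_sup (P.hh.disjoint hs.bin P.ht P.ne)]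
  rw [P.hh.card_im_eq P.ht]

theorem card_le (P : Pair V h t) :
    Nat.card V ≤ Nat.card (im (V := V) h) * Nat.card (im (V := V) h) * Nat.card (fix2 V h t) := by
  let f : fix (V := V) h →+ V := (disp t).comp (fix (V := V) h).subtype
  have h1 := AddSubgroup.card_mul_index f.ker
  rw [AddSubgroup.index_ker] at h1
  have h2 : Nat.card f.ker ≤ Nat.card (fix2 V h t) :=
    Nat.card_le_card_of_injective (fun a => ⟨a.1.1, a.1.2, (a.2 : disp t a.1.1 = 0)⟩)
      (fun a b hab => Subtype.ext (Subtype.ext (show a.1.1 = b.1.1 from congrArg (fun z : fix2 V h t => (z : V)) hab)))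
  have h3 : Nat.card f.range ≤ Nat.card (im (V := V) t) :=
    AddSubgroup.card_le_of_le (by rintro _ ⟨a, rfl⟩; exact ⟨a.1, rfl⟩)
  rw [← card_im_mul_card_fix (V := V) h, ← h1, mul_assoc, mul_comm (Nat.card f.ker)]
  exact Nat.mul_le_mul_left _ (Nat.mul_le_mul (h3.trans_eq (P.ht.card_im_eq P.hh)) h2)

theorem span_inter_fix (P : Pair V h t) (hs : Setup H V p) : ∀ v ∈ span2 V h t, v ∈ fix2 V h t → v = 0 := by
  rintro v hv ⟨h1, h2⟩
  rcases hs.two_or_odd with he | ho
  · obtain ⟨a, ha, b, hb, rfl⟩ := AddSubgroup.mem_sup.1 hv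
    have hself : ∀ {g : H}, Min V g → ∀ c ∈ im (V := V) g, c ∈ fix g := fun hg c hc => by
      rw [mem_fix, hg.neg hs.bin hc, neg_eq_iff_add_eq_zero]; exact he c
    have hb0 : b = 0 := P.ht.im_inter_fix hs.bin P.nc b hb (by
      simpa using (fix (V := V) h).sub_mem h1 (hself P.hh a ha))
    subst hb0
    rw [add_zero] at h2 ⊢
    exact P.hh.im_inter_fix hs.bin P.symm.nc a ha h2
  · refine eq_zero_of_mem_sup_im hs.prime hs.exp (not_dvd_card hs.bin ho hs.prime hs.exp)
      (fixer (AddSubgroup.zmultiples v)) (v := v) ?_ fun m => m.2 v (AddSubgroup.mem_zmultiples v)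
    have key : ∀ g : H, v ∈ fix g → im (V := V) g ≤ ⨆ m : fixer (H := H) (AddSubgroup.zmultiples v), im (V := V) (m : H) :=
      fun g hg => le_iSup (fun m : fixer (H := H) (AddSubgroup.zmultiples v) => im (V := V) (m : H))
        ⟨g, mem_fixer.2 (AddSubgroup.zmultiples_le.2 hg)⟩
    exact sup_le (key h h1) (key t h2) hv

theorem decomp (P : Pair V h t) (hs : Setup H V p) : span2 V h t ⊔ fix2 V h t = ⊤ :=
  sup_eq_top (P.span_inter_fix hs) (by rw [P.card_span hs]; exact P.card_le)

theorem card_eq (P : Pair V h t) (hs : Setup H V p) :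
    Nat.card (im (V := V) h) * Nat.card (im (V := V) h) * Nat.card (fix2 V h t) = Nat.card V := by
  rw [← P.card_span hs, ← card_sup (P.span_inter_fix hs), P.decomp hs, AddSubgroup.card_top]

theorem exists_add (P : Pair V h t) (hs : Setup H V p) (v : V) :
    ∃ a ∈ span2 V h t, ∃ l ∈ fix2 V h t, a + l = v :=
  AddSubgroup.mem_sup.1 (P.decomp hs ▸ AddSubgroup.mem_top v)

theorem fix_mul (P : Pair V h t) (hs : Setup H V p) : fix (V := V) (h * t) = fix2 V h t := by
  refine le_antisymm (fun x hx => ?_) fun x hx => ?_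
  · rw [mem_fix, mul_smul] at hx
    have e : t • x = h • x := by rw [← hx, P.hh.smul_smul hs.bin, hx]
    have h0 : t • x - x = 0 :=
      P.ht.disjoint hs.bin P.hh P.ne.symm _ (smul_sub_mem_im t x) (e ▸ smul_sub_mem_im h x)
    refine ⟨mem_fix.2 ?_, mem_fix.2 (sub_eq_zero.1 h0)⟩
    rw [← e]; exact sub_eq_zero.1 h0
  · rw [mem_fix, mul_smul, mem_fix.1 hx.2, mem_fix.1 hx.1]

theorem im_mul (P : Pair V h t) (hs : Setup H V p) : im (V := V) (h * t) = span2 V h t := by
  refine AddSubgroup.eq_of_le_of_card_ge ?_ ?_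
  · rintro _ ⟨x, rfl⟩
    rw [disp_apply, mul_smul, show h • t • x - x = (h • (t • x) - t • x) + (t • x - x) by abel]
    exact AddSubgroup.add_mem_sup (smul_sub_mem_im h _) (smul_sub_mem_im t x)
  · have h1 := card_im_mul_card_fix (V := V) (h * t)
    rw [P.fix_mul hs, ← P.card_eq hs, ← P.card_span hs] at h1
    exact (Nat.eq_of_mul_eq_mul_right Nat.card_pos h1).ge

/-- The product of a pair negates no non-zero vector of its span. -/
theorem mul_smul_ne_neg (P : Pair V h t) (hs : Setup H V p) {d : V} (hd : d ∈ span2 V h t)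
    (e : (h * t) • d = -d) : d = 0 := by
  obtain ⟨a, ha, b, hb, rfl⟩ := AddSubgroup.mem_sup.1 hd
  have e' : t • (a + b) = -(h • (a + b)) := by
    rw [mul_smul] at e
    rw [← smul_neg, ← e, P.hh.smul_smul hs.bin]
  rw [smul_add, smul_add, P.hh.neg hs.bin ha, P.ht.neg hs.bin hb] at e'
  have e'' : t • a - a = -(h • b - b) := by
    rw [eq_comm, ← sub_eq_zero] at e' ⊢
    rw [← e']; abel
  have h0 : t • a - a = 0 :=
    P.ht.disjoint hs.bin P.hh P.ne.symm _ (smul_sub_mem_im t a) (e'' ▸ AddSubgroup.neg_mem _ (smul_sub_mem_im h b))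
  rw [h0, eq_comm, neg_eq_zero] at e''
  rw [P.hh.im_inter_fix hs.bin P.symm.nc a ha (mem_fix.2 (sub_eq_zero.1 h0)),
    P.ht.im_inter_fix hs.bin P.nc b hb (mem_fix.2 (sub_eq_zero.1 e'')), add_zero]

end Pair

end H48.BinAff
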