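import Cfsg.Agent.H48.BinAff.Plane

/-!
# Binary primitive groups with an abelian normal subgroup

The regular normal subgroup is the vector space and a point stabiliser is the linear group.
-/

set_option autoImplicit false
set_option linter.unusedSectionVars false
set_option linter.style.haveILetI false

namespace H48.BinAff

variable {G Ω : Type*} [Group G] [MulAction G Ω]

/-- The conjugation action of a stabiliser on an abelian normal subgroup, written additively. -/
@[reducible] def stabAct (N : Subgroup G) [N.Normal] [IsMulCommutative ↥N] (ω₀ : Ω) :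
    DistribMulAction (MulAction.stabilizer G ω₀) (Additive N) where
  smul s v := Additive.ofMul (MulAut.conjNormal (s : G) v.toMul)
  one_smul v := congrArg Additive.ofMul (by
    rw [show ((1 : MulAction.stabilizer G ω₀) : G) = 1 from rfl, map_one]; rfl)
  mul_smul s t v := congrArg Additive.ofMul (by
    rw [Subgroup.coe_mul, map_mul]; rfl)
  smul_zero s := congrArg Additive.ofMul (map_one (MulAut.conjNormal (s : G)))
  smul_add s v w := congrArg Additive.ofMul (map_mul (MulAut.conjNormal (s : G)) v.toMul w.toMul)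

variable [Finite G] [FaithfulSMul G Ω] [Fintype Ω]

/-- A nontrivial normal subgroup of a primitive group is transitive. -/
theorem transitive_of_normal (hprim : MulAction.IsPreprimitive G Ω) (M : Subgroup G) [M.Normal] (hM : M ≠ ⊥)
    (a b : Ω) : ∃ m ∈ M, m • a = b := by
  haveI := hprim
  rcases MulAction.IsPreprimitive.isTrivialBlock_of_isBlock (MulAction.IsBlock.orbit_of_normal (N := M) a) with h | h
  · refine absurd ((Subgroup.eq_bot_iff_forall _).2 fun m hm => eq_of_smul_eq_smul (α := Ω) fun ω => ?_) hM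
    obtain ⟨g, rfl⟩ := MulAction.exists_smul_eq G a ω
    have hfix : (g⁻¹ * m * g) • a = a :=
      h ⟨⟨g⁻¹ * m * g, by simpa using Subgroup.Normal.conj_mem ‹_› m hm g⁻¹⟩, rfl⟩ (MulAction.mem_orbit_self a)
    rw [mul_smul, mul_smul, inv_smul_eq_iff] at hfix
    rw [hfix, one_smul]
  · obtain ⟨m, hm⟩ := MulAction.mem_orbit_iff.1 (h ▸ Set.mem_univ b : b ∈ MulAction.orbit M a)
    exact ⟨m.1, m.2, hm⟩

open MulAction in
/-- The classification of binary primitive groups of affine type, at one point. -/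
theorem binary_affine_at (hprim : IsPreprimitive G Ω)
    (haff : ∃ N : Subgroup G, N.Normal ∧ N ≠ ⊥ ∧ IsMulCommutative ↥N)
    (hbin : ∀ (n : ℕ) (I J : Fin n → Ω), 2 ≤ n →
      (∀ i j : Fin n, i ≠ j → ∃ g : G, g • I i = J i ∧ g • I j = J j) → ∃ g : G, ∀ i, g • I i = J i) (ω₀ : Ω) :
    ((Fintype.card Ω).Prime ∧ Nat.card ↥(stabilizer G ω₀) ≤ 2) ∨
    (∃ (F E : Type) (_ : Field F) (_ : Fintype F) (_ : Field E) (_ : Fintype E) (_ : Algebra F E) (e : Ω ≃ E),
        Module.finrank F E = 2 ∧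
        ∀ σ : Equiv.Perm Ω, σ ∈ (toPermHom G Ω).range ↔
          ∃ (a b : E) (φ : E ≃ₐ[F] E), Algebra.norm F a = 1 ∧ ∀ ω : Ω, e (σ ω) = a * φ (e ω) + b) := by
  classical
  obtain ⟨N, hN, hNbot, hcomm⟩ := haff
  haveI := hN
  haveI := hcomm
  have hreg : ∀ n ∈ N, n • ω₀ = ω₀ → n = 1 := by
    intro n hn hfix
    refine eq_of_smul_eq_smul (α := Ω) fun ω => ?_
    obtain ⟨m, hm, rfl⟩ := transitive_of_normal hprim N hNbot ω₀ ω
    have hc : n * m = m * n := congrArg Subtype.val (hcomm.is_comm.comm (⟨n, hn⟩ : N) ⟨m, hm⟩)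
    rw [one_smul, ← mul_smul, hc, mul_smul, hfix]
  letI : CommGroup ↥N := { (inferInstance : Group ↥N) with mul_comm := fun a b => hcomm.is_comm.comm a b }
  letI := stabAct N ω₀
  let H := stabilizer G ω₀
  let π₀ : Additive N → Ω := fun v => (v.toMul : G) • ω₀
  have hπb : Function.Bijective π₀ := by
    refine ⟨fun v w h => ?_, fun ω => ?_⟩
    · have h' : (((v.toMul : N) : G)⁻¹ * (w.toMul : G)) • ω₀ = ω₀ := by
        rw [mul_smul, ← show π₀ w = (w.toMul : G) • ω₀ from rfl, ← h, inv_smul_smul]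
      have := hreg _ (N.mul_mem (N.inv_mem v.toMul.2) w.toMul.2) h'
      exact Subtype.ext (inv_mul_eq_one.1 this)
    · obtain ⟨m, hm, hmω⟩ := transitive_of_normal hprim N hNbot ω₀ ω
      exact ⟨Additive.ofMul ⟨m, hm⟩, hmω⟩
  let π : Additive N ≃ Ω := Equiv.ofBijective π₀ hπb
  have hπsmul : ∀ (s : H) (v : Additive N), π (s • v) = (s : G) • π v := by
    intro s v
    show ((MulAut.conjNormal (s : G) v.toMul : N) : G) • ω₀ = (s : G) • ((v.toMul : G) • ω₀)
    rw [MulAut.conjNormal_apply, mul_smul, mul_smul, (inv_smul_eq_iff.2 (mem_stabilizer_iff.1 s.2).symm)]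
  have hπadd : ∀ v w : Additive N, π (v + w) = (v.toMul : G) • π w := fun v w => mul_smul _ _ _
  have hπ0 : π 0 = ω₀ := one_smul G ω₀
  haveI : FaithfulSMul H (Additive N) := ⟨fun {s t} h => Subtype.ext (eq_of_smul_eq_smul (α := Ω) fun ω => by
    rw [← π.apply_symm_apply ω, ← hπsmul, ← hπsmul, h])⟩
  have hdec : ∀ g : G, ∃ (w : Additive N) (s : H), ∀ v, g • π v = π (w + s • v) := by
    intro g
    obtain ⟨w, hw⟩ := π.surjective (g • ω₀)
    refine ⟨w, ⟨((w.toMul : G))⁻¹ * g, mem_stabilizer_iff.2 (by rw [mul_smul, ← hw]; exact inv_smul_smul _ _)⟩, fun v => ?_⟩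
    rw [hπadd, hπsmul, ← mul_smul, mul_inv_cancel_left]
  have hcomp : ∀ (w : Additive N) (s : H) (v : Additive N), ((w.toMul : G) * s) • π v = π (w + s • v) :=
    fun w s v => by rw [hπadd, hπsmul, mul_smul]
  haveI : Nontrivial (Additive N) := (Subgroup.nontrivial_iff_ne_bot N).2 hNbot
  haveI : Fact (Nat.card N).minFac.Prime := ⟨Nat.minFac_prime (fun e => hNbot (Subgroup.eq_bot_of_card_eq _ e))⟩
  obtain ⟨p, hp⟩ : ∃ p, (Nat.card N).minFac = p := ⟨_, rfl⟩
  haveI : Fact p.Prime := hp ▸ ‹Fact (Nat.card N).minFac.Prime›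
  -- exponent `p`
  have hexp : ∀ x : Additive N, p • x = 0 := by
    let M : Subgroup G :=
      { carrier := {g | g ∈ N ∧ g ^ p = 1}
        one_mem' := ⟨N.one_mem, one_pow p⟩
        mul_mem' := fun {a b} ha hb => ⟨N.mul_mem ha.1 hb.1, by
          rw [(show Commute a b from congrArg Subtype.val (hcomm.is_comm.comm (⟨a, ha.1⟩ : N) ⟨b, hb.1⟩)).mul_pow,
            ha.2, hb.2, one_mul]⟩
        inv_mem' := fun {a} ha => ⟨N.inv_mem ha.1, by rw [inv_pow, ha.2, inv_one]⟩ }
    haveI : M.Normal := ⟨fun m hm g => ⟨hN.conj_mem m hm.1 g, by rw [conj_pow, hm.2, mul_one, mul_inv_cancel]⟩⟩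
    have hM : M ≠ ⊥ := by
      obtain ⟨x, hx⟩ := exists_prime_orderOf_dvd_card' (G := N) p (hp ▸ Nat.minFac_dvd _)
      intro e
      have hmem : (x : G) ∈ M := ⟨x.2, by rw [← hx, ← Subgroup.coe_pow, pow_orderOf_eq_one]; rfl⟩
      rw [e, Subgroup.mem_bot] at hmem
      rw [show x = 1 from Subtype.ext hmem, orderOf_one] at hx
      exact (Fact.out : p.Prime).one_lt.ne hx
    intro x
    obtain ⟨m, hm, hmω⟩ := transitive_of_normal hprim M hM ω₀ (π x)
    have hxm : x = Additive.ofMul ⟨m, hm.1⟩ := π.injective hmω.symm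
    rw [hxm, ← ofMul_pow]
    exact congrArg Additive.ofMul (Subtype.ext hm.2)
  have hirr : Irr H (Additive N) := by
    intro A hA
    haveI := hprim
    have hblk : IsBlock G (π '' (A : Set (Additive N))) := by
      rw [isBlock_iff_smul_eq_of_nonempty]
      intro g hne
      obtain ⟨w, s, hws⟩ := hdec g
      obtain ⟨_, ⟨_, ⟨a, ha, rfl⟩, rfl⟩, b, hb, hab⟩ := hne
      simp only [hws] at hab
      have hw : w ∈ A := by
        have := π.injective hab
        rw [show w = b - s • a by rw [this]; abel]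
        exact A.sub_mem hb (hA s a ha)
      ext ω
      constructor
      · rintro ⟨_, ⟨v, hv, rfl⟩, rfl⟩
        exact ⟨_, A.add_mem hw (hA s v hv), (hws v).symm⟩
      · rintro ⟨v, hv, rfl⟩
        refine ⟨_, ⟨s⁻¹ • (v - w), hA _ _ (A.sub_mem hv hw), rfl⟩, ?_⟩
        show g • _ = _
        rw [hws, smul_inv_smul, add_sub_cancel]
    rcases IsPreprimitive.isTrivialBlock_of_isBlock hblk with h | h
    · exact Or.inl ((AddSubgroup.eq_bot_iff_forall _).2 fun a ha =>
        π.injective (h ⟨a, ha, rfl⟩ ⟨0, A.zero_mem, rfl⟩))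
    · refine Or.inr (eq_top_iff.2 fun a _ => ?_)
      obtain ⟨b, hb, hba⟩ := (h ▸ Set.mem_univ (π a) : π a ∈ π '' (A : Set (Additive N)))
      exact π.injective hba ▸ hb
  have hb : Bin H (Additive N) := by
    intro X f hX
    rcases X.eq_empty_or_nonempty with hE | ⟨x₀, hx₀⟩
    · exact ⟨1, 0, fun x hx => absurd hx (by simp [hE])⟩
    cases nonempty_fintype (Additive N)
    let k := Fintype.card (Additive N)
    let en : Fin k ≃ Additive N := (Fintype.equivFin _).symm
    let xs : Fin k → Additive N := fun i => if en i ∈ X then en i else x₀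
    have hxs : ∀ i, xs i ∈ X := fun i => by
      simp only [xs]; split_ifs with h
      · exact h
      · exact hx₀
    obtain ⟨g, hg⟩ := hbin k (fun i => π (xs i)) (fun i => π (f (xs i)))
      (Fintype.one_lt_card (α := Additive N)) (fun i j _ => by
        obtain ⟨s, hs⟩ := hX _ (hxs i) _ (hxs j)
        refine ⟨((f (xs j) - s • xs j).toMul : G) * s, ?_, ?_⟩
        · rw [hcomp]
          congr 1
          rw [smul_sub] at hs
          rw [show f (xs i) = (f (xs i) - f (xs j)) + f (xs j) by abel, ← hs]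
          abel
        · rw [hcomp, sub_add_cancel])
    obtain ⟨w, s, hws⟩ := hdec g
    refine ⟨s, w, fun x hx => ?_⟩
    have := hg (en.symm x)
    rw [show xs (en.symm x) = x by simp [xs, hx], hws] at this
    rw [← π.injective this, add_comm]
  have hs : Setup H (Additive N) p := ⟨hb, Fact.out, hexp⟩
  have hcard : Fintype.card Ω = Nat.card (Additive N) := by
    rw [← Nat.card_eq_fintype_card, Nat.card_congr π]
  rcases small_or_plane hs hirr with ⟨h1, h2⟩ | ⟨h, t, P, hL⟩
  · exact Or.inl ⟨by rw [hcard, h1]; exact Fact.out, h2⟩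
  right
  obtain ⟨r, hr, ι, hall, hreal⟩ := P.exists_field hs hL
  obtain ⟨f₀⟩ := FiniteField.nonempty_algHom_of_finrank_dvd (F := ZMod p) (K := GaloisField p r)
    (L := GaloisField p (2 * r)) (by rw [GaloisField.finrank p hr.ne', GaloisField.finrank p (by omega)]; exact dvd_mul_left r 2)
  letI : Algebra (GaloisField p r) (GaloisField p (2 * r)) := f₀.toRingHom.toAlgebra
  have hrank : Module.finrank (GaloisField p r) (GaloisField p (2 * r)) = 2 := by
    have h1 := Module.natCard_eq_pow_finrank (K := GaloisField p r) (V := GaloisField p (2 * r))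
    rw [GaloisField.card p r hr.ne', GaloisField.card p (2 * r) (by omega), ← pow_mul] at h1
    have h2 := Nat.pow_right_injective (Fact.out : p.Prime).two_le h1
    exact (Nat.eq_of_mul_eq_mul_left hr ((Nat.mul_comm r 2).trans h2)).symm
  have hnorm : ∀ a : GaloisField p (2 * r), Algebra.norm (GaloisField p r) a = 1 ↔ a ^ (p ^ r + 1) = 1 := by
    intro a
    have hexpo : (p ^ (2 * r) - 1) / (p ^ r - 1) = p ^ r + 1 := by
      have h2 : 2 ≤ p ^ r := le_trans (Fact.out : p.Prime).two_le (Nat.le_self_pow hr.ne' p)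
      refine Nat.div_eq_of_eq_mul_left (by omega) ?_
      obtain ⟨m, hm⟩ : ∃ m, p ^ r = m + 1 := ⟨p ^ r - 1, by omega⟩
      have hm2 : (m + 1) * (m + 1) = (m + 1 + 1) * m + 1 := by ring
      rw [two_mul, pow_add, hm, Nat.add_sub_cancel]
      omega
    have h := FiniteField.algebraMap_norm_eq_pow (K := GaloisField p r) (K' := GaloisField p (2 * r)) (x := a)
    rw [GaloisField.card p r hr.ne', GaloisField.card p (2 * r) (by omega), hexpo] at h
    rw [← h, ← (algebraMap (GaloisField p r) (GaloisField p (2 * r))).map_one]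
    exact (algebraMap (GaloisField p r) (GaloisField p (2 * r))).injective.eq_iff.symm
  letI := Fintype.ofFinite (GaloisField p r)
  letI := Fintype.ofFinite (GaloisField p (2 * r))
  let fr := FiniteField.frobeniusAlgEquivOfAlgebraic (GaloisField p r) (GaloisField p (2 * r))
  have hfr : ∀ x, fr x = x ^ p ^ r := fun x => by
    rw [← GaloisField.card p r hr.ne', Nat.card_eq_fintype_card]
    rfl
  have hφ : ∀ φ : GaloisField p (2 * r) ≃ₐ[GaloisField p r] GaloisField p (2 * r),
      (∀ x, φ x = x) ∨ ∀ x, φ x = x ^ p ^ r := by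
    intro φ
    obtain ⟨⟨n, hn⟩, rfl⟩ := (FiniteField.bijective_frobeniusAlgEquivOfAlgebraic_pow _ _).2 φ
    rw [hrank] at hn
    interval_cases n
    · exact Or.inl fun x => by simp
    · exact Or.inr fun x => by simpa [fr] using hfr x
  refine ⟨GaloisField p r, GaloisField p (2 * r), inferInstance, inferInstance, inferInstance, inferInstance,
    inferInstance, π.symm.trans ι.toEquiv, hrank, fun σ => ⟨?_, ?_⟩⟩
  · rintro ⟨g, rfl⟩
    obtain ⟨w, s, hws⟩ := hdec g
    have he : ∀ ω, (π.symm.trans ι.toEquiv) (toPermHom G Ω g ω) = ι (s • π.symm ω) + ι w := by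
      intro ω
      show ι (π.symm (g • ω)) = _
      conv_lhs => rw [← π.apply_symm_apply ω, hws, π.symm_apply_apply]
      rw [map_add, add_comm]
    obtain ⟨a, ha, hcase⟩ := hall s
    rcases hcase with hc | hc
    · exact ⟨a, ι w, AlgEquiv.refl, (hnorm a).2 ha, fun ω => by rw [he, hc]; rfl⟩
    · exact ⟨a, ι w, fr, (hnorm a).2 ha, fun ω => by rw [he, hc, hfr]; rfl⟩
  · rintro ⟨a, b, φ, ha, hσ⟩
    obtain ⟨s, hsa⟩ : ∃ s : H, ∀ v, ι (s • v) = a * φ (ι v) := by
      obtain ⟨⟨s₁, h₁⟩, ⟨s₂, h₂⟩⟩ := hreal a ((hnorm a).1 ha)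
      rcases hφ φ with hc | hc
      · exact ⟨s₁, fun v => by rw [h₁, hc]⟩
      · exact ⟨s₂, fun v => by rw [h₂, hc]⟩
    refine ⟨((ι.symm b).toMul : G) * s, Equiv.ext fun ω => (π.symm.trans ι.toEquiv).injective ?_⟩
    rw [hσ]
    show ι (π.symm ((((ι.symm b).toMul : G) * s) • ω)) = a * φ (ι (π.symm ω)) + b
    conv_lhs => rw [← π.apply_symm_apply ω, hcomp, π.symm_apply_apply]
    rw [map_add, ι.apply_symm_apply, hsa, add_comm]

end H48.BinAff
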