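import Cfsg.Agent.H48.BinAff.Top

/-!
# Binary affine groups: the plane

When a pair spans everything, the products of two minimal elements form an abelian group of order
`q + 1` acting semiregularly, and its commutant is a field with `q ^ 2` elements.
-/

set_option autoImplicit false
set_option linter.unusedSectionVars false
set_option linter.style.haveILetI false

namespace H48.BinAff

variable {H V : Type*} [Group H] [Finite H] [AddCommGroup V] [DistribMulAction H V] [FaithfulSMul H V] [Finite V]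

/-- `g` fixes only the zero vector. -/
def Fpf (V : Type*) [AddCommGroup V] [DistribMulAction H V] (g : H) : Prop := ∀ a : V, g • a = a → a = 0

/-- A group acting semiregularly off the origin of an invariant subgroup divides its punctured order. -/
theorem dvd_card_sub_one (C : Subgroup H) (hC : ∀ c ∈ C, c ≠ 1 → Fpf V c) (A : AddSubgroup V)
    (hA : ∀ c ∈ C, ∀ a ∈ A, c • a ∈ A) : Nat.card C ∣ Nat.card A - 1 := by
  letI : MulAction C {a : A // a ≠ 0} :=
    { smul := fun c a => ⟨⟨(c : H) • a.1.1, hA c c.2 _ a.1.2⟩, fun e => a.2 (Subtype.ext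
        ((smul_eq_zero_iff_eq (c : H)).1 (congrArg Subtype.val e)))⟩
      one_smul := fun a => Subtype.ext (Subtype.ext (one_smul H a.1.1))
      mul_smul := fun c d a => Subtype.ext (Subtype.ext (mul_smul (c : H) (d : H) a.1.1)) }
  have hst : ∀ b : {a : A // a ≠ 0}, MulAction.stabilizer C b = ⊥ := by
    intro b
    refine (Subgroup.eq_bot_iff_forall _).2 fun c hc => Subtype.ext ?_
    by_contra hne
    exact b.2 (Subtype.ext (hC c c.2 hne b.1.1 (congrArg (fun z : {a : A // a ≠ 0} => (z.1 : V))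
      (MulAction.mem_stabilizer_iff.1 hc))))
  rw [← card_ne_zero A, Nat.card_congr (MulAction.selfEquivOrbitsQuotientProd hst), Nat.card_prod]
  exact dvd_mul_left _ _

namespace Pair

variable {p : ℕ} {h t : H}

theorem card_V (P : Pair V h t) (hs : Setup H V p) (hL : fix2 V h t = ⊥) :
    Nat.card V = Nat.card (im (V := V) h) * Nat.card (im (V := V) h) := by
  rw [← P.card_eq hs, hL, AddSubgroup.card_bot, mul_one]

theorem span_top (P : Pair V h t) (hs : Setup H V p) (hL : fix2 V h t = ⊥) : span2 V h t = ⊤ := by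
  have := P.decomp hs
  rwa [hL, sup_bot_eq] at this

theorem mem_of_min (P : Pair V h t) (hs : Setup H V p) (hL : fix2 V h t = ⊥) {x : H} (hx : Min V x) :
    Mem V h t x :=
  ⟨hx, hL ▸ bot_le, P.span_top hs hL ▸ le_top⟩

theorem card_fix_left (P : Pair V h t) (hs : Setup H V p) (hL : fix2 V h t = ⊥) {x : H} (hx : Min V x) :
    Nat.card (fix (V := V) x) = Nat.card (im (V := V) h) := by
  rw [hx.card_fix_eq P.hh]
  have h1 := card_im_mul_card_fix (V := V) h
  rw [P.card_V hs hL] at h1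
  exact Nat.eq_of_mul_eq_mul_left Nat.card_pos h1

theorem min_of_fixed (P : Pair V h t) (hs : Setup H V p) (hL : fix2 V h t = ⊥) {g : H} {a : V} (hg : g ≠ 1)
    (ha : a ≠ 0) (hga : g • a = a) : Min V g := by
  refine P.hh.of_card_le hg ?_
  by_contra hlt
  have hmeet : ∀ {x : H}, Min V x → ∃ d ∈ im (V := V) x, d ∈ im g ∧ d ≠ 0 := by
    intro x hx
    by_contra hc
    push Not at hc
    have h1 := card_mul_card_le (le_top (a := im (V := V) g)) (le_top (a := im x))
      (fun d h1 h2 => hc d h2 h1)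
    rw [AddSubgroup.card_top, P.card_V hs hL, hx.card_im_eq P.hh] at h1
    exact hlt (Nat.le_of_mul_le_mul_right h1 Nat.card_pos)
  obtain ⟨d, hd, hdg, hd0⟩ := hmeet P.hh
  obtain ⟨e, he, heg, he0⟩ := hmeet P.ht
  have : a ∈ fix2 V h t :=
    ⟨P.hh.fix_le_of_inter hs.bin hd0 hd hdg (mem_fix.2 hga), P.ht.fix_le_of_inter hs.bin he0 he heg (mem_fix.2 hga)⟩
  rw [hL, AddSubgroup.mem_bot] at this
  exact ha this

theorem fix_inter (P : Pair V h t) (hs : Setup H V p) (hL : fix2 V h t = ⊥) {x y : H} (hx : Min V x)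
    (hy : Min V y) (hne : x ≠ y) : ∀ a ∈ fix (V := V) x, a ∈ fix y → a = 0 := by
  intro a ha hay
  by_cases hc : Commute x y
  · have hxy : ∀ {u w : H}, Min V u → Min V w → u ≠ w → Commute u w → fix (V := V) u = im w := fun hu hw hn hc' =>
      (AddSubgroup.eq_of_le_of_card_ge (hu.im_le_fix hs.bin hw hn hc') (le_of_eq (by
        rw [P.card_fix_left hs hL hu, hw.card_im_eq P.hh]))).symm
    exact hx.disjoint hs.bin hy hne a (hxy hy hx hne.symm hc.symm ▸ hay) (hxy hx hy hne hc ▸ ha)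
  · obtain ⟨-, -, e⟩ := P.sub_pair hs (P.mem_of_min hs hL hx) (P.mem_of_min hs hL hy) hc
    have : a ∈ fix2 V x y := ⟨ha, hay⟩
    rwa [e, hL, AddSubgroup.mem_bot] at this

theorem stab_two (P : Pair V h t) (hs : Setup H V p) (hL : fix2 V h t = ⊥) {g g' : H} {a : V} (ha : a ≠ 0)
    (hg : g ≠ 1) (hg' : g' ≠ 1) (h1 : g • a = a) (h2 : g' • a = a) : g = g' := by
  by_contra hne
  exact ha (P.fix_inter hs hL (P.min_of_fixed hs hL hg ha h1) (P.min_of_fixed hs hL hg' ha h2) hne a
    (mem_fix.2 h1) (mem_fix.2 h2))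

theorem fix_ne_zero (P : Pair V h t) (hs : Setup H V p) (hL : fix2 V h t = ⊥) {x : H} (hx : Min V x) :
    ∃ a : V, a ≠ 0 ∧ x • a = a := by
  have h1 : 1 < Nat.card (fix (V := V) x) := by
    rw [P.card_fix_left hs hL hx]; exact one_lt_card_im P.hh.1
  haveI := Finite.one_lt_card_iff_nontrivial.1 h1
  obtain ⟨a, ha⟩ := exists_ne (0 : fix (V := V) x)
  exact ⟨a.1, fun e => ha (Subtype.ext e), mem_fix.1 a.2⟩

theorem card_fpf_le (P : Pair V h t) (hs : Setup H V p) (hL : fix2 V h t = ⊥) :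
    Nat.card {g : H // Fpf V g} ≤ Nat.card (im (V := V) h) := by
  obtain ⟨d, hd0, -⟩ := P.fix_ne_zero hs hL P.hh
  obtain ⟨u, hu, hdu⟩ := P.cover hs (P.span_top hs hL ▸ AddSubgroup.mem_top d) hd0
  obtain ⟨x₀, hx₀⟩ := mem_im.1 hdu
  have hsol : ∀ g : {g : H // Fpf V g}, ∃ x, g.1 • x = x + d := by
    intro g
    have hinj : Function.Injective (disp (V := V) g.1) := by
      refine (injective_iff_map_eq_zero _).2 fun a ha => g.2 a ?_
      rwa [disp_apply, sub_eq_zero] at ha
    obtain ⟨x, hx⟩ := Finite.surjective_of_injective hinj d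
    exact mem_im.1 ⟨x, hx⟩
  choose sol hsol using hsol
  have hcom : ∀ g, u • sol g = sol g + d := fun g => (hu.1.common hs.bin hd0 hx₀ (hsol g)).2
  rw [← P.card_fix_left hs hL hu.1]
  refine Nat.card_le_card_of_injective (fun g => (⟨sol g - x₀, ?_⟩ : fix (V := V) u)) ?_
  · rw [mem_fix, smul_sub, hcom, hx₀]; abel
  · intro g g' e
    have e' : sol g = sol g' := by simpa using congrArg Subtype.val e
    have hne : ∀ k : {g : H // Fpf V g}, u⁻¹ * k.1 ≠ 1 := by
      intro k e1
      obtain ⟨a, ha0, ha⟩ := P.fix_ne_zero hs hL hu.1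
      refine ha0 (k.2 a ?_)
      rw [← inv_mul_eq_one.1 e1, ha]
    have hfix : ∀ k, (u⁻¹ * k.1) • sol k = sol k := fun k => by
      rw [mul_smul, hsol, inv_smul_eq_iff, hcom]
    have hs0 : sol g ≠ 0 := fun e0 => hd0 (by simpa [e0] using (hcom g).symm)
    exact Subtype.ext (mul_left_cancel (P.stab_two hs hL hs0 (hne g) (hne g') (hfix g) (e' ▸ hfix g')))

theorem fpf_mul (P : Pair V h t) (hs : Setup H V p) (hL : fix2 V h t = ⊥) {r s : H} (hr : Min V r) (hm : Min V s)
    (hne : r ≠ s) : Fpf V (r * s) := by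
  intro x hx
  rw [mul_smul] at hx
  have e : s • x = r • x := by
    conv_rhs => rw [← hx]
    rw [hr.smul_smul hs.bin]
  have h0 : s • x - x = 0 :=
    hm.disjoint hs.bin hr hne.symm _ (smul_sub_mem_im s x) (e ▸ smul_sub_mem_im r x)
  exact P.fix_inter hs hL hr hm hne x (mem_fix.2 (e ▸ sub_eq_zero.1 h0)) (mem_fix.2 (sub_eq_zero.1 h0))

theorem exists_mul_eq (P : Pair V h t) (hs : Setup H V p) (hL : fix2 V h t = ⊥) {r : H} (hr : Min V r) {g : H}
    (hg : g = 1 ∨ Fpf V g) : ∃ s : H, Min V s ∧ g = r * s := by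
  classical
  cases nonempty_fintype H
  have hsq : r * r = 1 := by
    have := (hr.inv hs.bin).2
    rw [inv_eq_iff_mul_eq_one] at this
    exact this
  let A : Finset H := (Finset.univ.filter fun x => Min V x).image (r * ·)
  let B : Finset H := Finset.univ.filter fun x => x = 1 ∨ Fpf V x
  have hAB : A ⊆ B := by
    intro x hx
    simp only [A, Finset.mem_image, Finset.mem_filter, Finset.mem_univ, true_and] at hx
    obtain ⟨s, hms, rfl⟩ := hx
    simp only [B, Finset.mem_filter, Finset.mem_univ, true_and]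
    by_cases e : r = s
    · exact Or.inl (e ▸ hsq)
    · exact Or.inr (P.fpf_mul hs hL hr hms e)
  have hA : A.card = Nat.card (im (V := V) h) + 1 := by
    rw [Finset.card_image_of_injective _ (mul_right_injective r), ← P.card_mem hs,
      Nat.card_eq_fintype_card, Fintype.card_subtype]
    congr 1
    ext x
    simp only [Finset.mem_filter, Finset.mem_univ, true_and]
    exact ⟨P.mem_of_min hs hL, fun h => h.1⟩
  have hB : B.card ≤ Nat.card (im (V := V) h) + 1 := by
    have h1 := P.card_fpf_le hs hL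
    rw [Nat.card_eq_fintype_card, Fintype.card_subtype] at h1
    have : B ⊆ insert 1 (Finset.univ.filter fun x => Fpf V x) := by
      intro x hx
      simpa [B] using hx
    exact (Finset.card_le_card this).trans ((Finset.card_insert_le _ _).trans (Nat.add_le_add_right h1 1))
  have hgB : g ∈ B := by simpa [B] using hg
  rw [← Finset.eq_of_subset_of_card_le hAB (hA ▸ hB)] at hgB
  simp only [A, Finset.mem_image, Finset.mem_filter, Finset.mem_univ, true_and] at hgB
  obtain ⟨s, hs', e⟩ := hgB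
  exact ⟨s, hs', e.symm⟩

theorem exists_circle (P : Pair V h t) (hs : Setup H V p) (hL : fix2 V h t = ⊥) :
    ∃ C : Subgroup H, Nat.card C = Nat.card (im (V := V) h) + 1 ∧ (∀ c ∈ C, c ≠ 1 → Fpf V c) ∧
      (∀ c ∈ C, h * c = c⁻¹ * h) ∧ (∀ c ∈ C, ∀ d ∈ C, Commute c d) ∧ ∀ g, g ∈ C ∨ h * g ∈ C := by
  classical
  cases nonempty_fintype H
  have hinv : ∀ {r : H}, Min V r → r⁻¹ = r := fun hr => (hr.inv hs.bin).2
  have hsq : ∀ {r : H}, Min V r → r * r = 1 := fun hr => by
    rw [← inv_eq_iff_mul_eq_one]; exact hinv hr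
  have hprod : ∀ {r s : H}, Min V r → Min V s → r * s = 1 ∨ Fpf V (r * s) := fun {r s} hr hm => by
    by_cases e : r = s
    · exact Or.inl (e ▸ hsq hr)
    · exact Or.inr (P.fpf_mul hs hL hr hm e)
  have hpar : ∀ {c : H}, (c = 1 ∨ Fpf V c) → ∃ r, Min V r ∧ c = h * r := fun hc => P.exists_mul_eq hs hL P.hh hc
  have hneg : ∀ {c : H}, (c = 1 ∨ Fpf V c) → h * c = c⁻¹ * h := by
    intro c hc
    obtain ⟨r, hr, rfl⟩ := hpar hc
    rw [mul_inv_rev, hinv hr, hinv P.hh, ← mul_assoc, hsq P.hh, one_mul, mul_assoc, hsq P.hh, mul_one]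
  have hmul : ∀ {a b : H}, (a = 1 ∨ Fpf V a) → (b = 1 ∨ Fpf V b) → a * b = 1 ∨ Fpf V (a * b) := by
    intro a b ha hb
    obtain ⟨r, hr, rfl⟩ := hpar ha
    obtain ⟨s, hms, rfl⟩ := P.exists_mul_eq hs hL hr hb
    rw [mul_assoc, ← mul_assoc r r s, hsq hr, one_mul]
    exact hprod P.hh hms
  let C : Subgroup H :=
    { carrier := {g | g = 1 ∨ Fpf V g}
      mul_mem' := fun ha hb => hmul ha hb
      one_mem' := Or.inl rfl
      inv_mem' := fun {a} ha => by
        obtain ⟨r, hr, rfl⟩ := hpar ha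
        show _ = 1 ∨ Fpf V _
        rw [mul_inv_rev, hinv hr, hinv P.hh]
        exact hprod hr P.hh }
  refine ⟨C, ?_, fun c hc hc1 => hc.resolve_left hc1, fun c hc => hneg hc, ?_, ?_⟩
  · rw [← P.card_mem hs]
    refine (Nat.card_congr (Equiv.ofBijective (fun r : {x : H // Mem V h t x} => (⟨h * r.1, hprod P.hh r.2.1⟩ : C))
      ⟨?_, ?_⟩)).symm
    · intro a b hab
      exact Subtype.ext (mul_left_cancel (congrArg Subtype.val hab :))
    · rintro ⟨c, hc⟩
      obtain ⟨r, hr, rfl⟩ := hpar hc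
      exact ⟨⟨r, P.mem_of_min hs hL hr⟩, rfl⟩
  · intro c hc d hd
    have h1 := hneg (c := c * d) (hmul hc hd)
    rw [← mul_assoc, hneg hc, mul_assoc, hneg hd, ← mul_assoc, mul_inv_rev, mul_right_cancel_iff,
      ← mul_inv_rev, ← mul_inv_rev, inv_inj] at h1
    exact h1.symm
  · intro g
    by_cases hg : g = 1 ∨ Fpf V g
    · exact Or.inl hg
    · push Not at hg
      obtain ⟨hg1, hgf⟩ := hg
      simp only [Fpf, not_forall, exists_prop] at hgf
      obtain ⟨a, ha, ha0⟩ := hgf
      exact Or.inr (hprod P.hh (P.min_of_fixed hs hL hg1 ha0 ha))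

/-- The plane is the additive group of a field, and the group is its norm-one similitude group. -/
theorem exists_field (P : Pair V h t) [Fact p.Prime] (hs : Setup H V p) (hL : fix2 V h t = ⊥) :
    ∃ r, 0 < r ∧ ∃ ι : V ≃+ GaloisField p (2 * r),
      (∀ g : H, ∃ a : GaloisField p (2 * r), a ^ (p ^ r + 1) = 1 ∧
        ((∀ v, ι (g • v) = a * ι v) ∨ ∀ v, ι (g • v) = a * ι v ^ p ^ r)) ∧
      ∀ a : GaloisField p (2 * r), a ^ (p ^ r + 1) = 1 →
        (∃ g : H, ∀ v, ι (g • v) = a * ι v) ∧ ∃ g : H, ∀ v, ι (g • v) = a * ι v ^ p ^ r := by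
  classical
  obtain ⟨C, hCcard, hCfpf, hCneg, hCcomm, hCcos⟩ := P.exists_circle hs hL
  obtain ⟨r, hr⟩ : ∃ r, Nat.card (im (V := V) h) = p ^ r := by
    letI : Module (ZMod p) (im (V := V) h) := AddCommGroup.zmodModule fun x => Subtype.ext (hs.exp x.1)
    exact ⟨_, (FiniteField.pow_finrank_eq_natCard p _).symm⟩
  have hq := one_lt_card_im (V := V) P.hh.1
  have hr0 : 0 < r := by
    rcases Nat.eq_zero_or_pos r with e | e
    · rw [e, pow_zero] at hr; omega
    · exact e
  have hV : Nat.card V = p ^ (2 * r) := by rw [P.card_V hs hL, hr, two_mul, pow_add]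
  -- no invariant subgroups
  have hirr : ∀ A : AddSubgroup V, (∀ c ∈ C, ∀ a ∈ A, c • a ∈ A) → A = ⊥ ∨ A = ⊤ := by
    intro A hA
    by_contra hne
    push Not at hne
    obtain ⟨hbot, htop⟩ := hne
    have h1 := dvd_card_sub_one C hCfpf A hA
    rw [hCcard] at h1
    have ha : 1 < Nat.card A :=
      Finite.one_lt_card_iff_nontrivial.2 ((AddSubgroup.nontrivial_iff_ne_bot _).2 hbot)
    have hb : 1 < A.index := by
      have := A.index_ne_zero_of_finite
      have h2 : A.index ≠ 1 := fun e => htop (AddSubgroup.index_eq_one.1 e)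
      omega
    have hab := A.card_mul_index
    rw [P.card_V hs hL] at hab
    obtain ⟨q, hq'⟩ : ∃ q, Nat.card (im (V := V) h) = q := ⟨_, rfl⟩
    rw [hq'] at h1 hab hq
    obtain ⟨k, hk⟩ := h1
    have ha' : Nat.card A = (q + 1) * k + 1 := by omega
    have hbd : (q + 1) ∣ A.index - 1 := by
      have e : (q + 1) * k * A.index + (A.index - 1) = (q + 1) * (q - 1) := by
        obtain ⟨q', rfl⟩ : ∃ q', q = q' + 1 := ⟨q - 1, by omega⟩
        obtain ⟨b, hb'⟩ : ∃ b, A.index = b + 1 := ⟨A.index - 1, by omega⟩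
        rw [hb', ha'] at hab
        rw [hb', Nat.add_sub_cancel, Nat.add_sub_cancel]
        nlinarith
      exact (Nat.dvd_add_right (Dvd.intro _ (mul_assoc _ _ _).symm)).1 (e ▸ dvd_mul_right _ _)
    have hage : q + 2 ≤ Nat.card A := by
      rcases Nat.eq_zero_or_pos k with e | e
      · rw [e, mul_zero] at hk; omega
      · have := Nat.le_mul_of_pos_right (q + 1) e; omega
    have hbge : q + 2 ≤ A.index := by
      have := Nat.le_of_dvd (by omega) hbd; omega
    have := Nat.mul_le_mul hage hbge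
    rw [hab] at this
    nlinarith
  obtain ⟨a₀, ha0, hha0⟩ := P.fix_ne_zero hs hL P.hh
  -- the commutant
  let toEnd : H →* AddMonoid.End V := DistribMulAction.toAddMonoidEnd H V
  let E : Subring (AddMonoid.End V) := Subring.centralizer (Set.range fun c : C => toEnd c)
  have hE : ∀ (x : E) (c : H), c ∈ C → ∀ v : V, c • (x.1 v) = x.1 (c • v) := fun x c hc v =>
    DFunLike.congr_fun (Subring.mem_centralizer_iff.1 x.2 _ ⟨⟨c, hc⟩, rfl⟩) v
  haveI : Finite (AddMonoid.End V) := Finite.of_injective (fun f : AddMonoid.End V => (f : V → V)) DFunLike.coe_injective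
  have hker : ∀ x : E, x ≠ 0 → ∀ v, x.1 v = 0 → v = 0 := by
    intro x hx v hv
    rcases hirr (x.1 : V →+ V).ker (fun c hc a (ha : x.1 a = 0) => show x.1 (c • a) = 0 by
      rw [← hE x c hc, ha, smul_zero]) with e | e
    · exact (AddSubgroup.mem_bot).1 (e ▸ (hv : v ∈ (x.1 : V →+ V).ker))
    · refine absurd (Subtype.ext (AddMonoidHom.ext fun w => ?_)) hx
      exact (e.symm ▸ AddSubgroup.mem_top w : w ∈ (x.1 : V →+ V).ker)
  haveI : Nontrivial V := ⟨a₀, 0, ha0⟩
  haveI : Nontrivial E := ⟨1, 0, fun e => ha0 (DFunLike.congr_fun (congrArg Subtype.val e) a₀ :)⟩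
  haveI : NoZeroDivisors E := ⟨fun {x y} hxy => by
    refine or_iff_not_imp_left.2 fun hx => Subtype.ext (AddMonoidHom.ext fun v => hker x hx _ ?_)
    exact DFunLike.congr_fun (congrArg Subtype.val hxy) v⟩
  haveI : IsDomain E := NoZeroDivisors.to_isDomain E
  letI : Field E := (Finite.isDomain_to_isField E).toField
  let ev : E →+ V := AddMonoidHom.mk' (fun x => x.1 a₀) fun _ _ => rfl
  have hinj : Function.Injective ev := by
    refine (injective_iff_map_eq_zero _).2 fun x hx => ?_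
    by_contra hx0
    exact ha0 (hker x hx0 a₀ hx)
  have hsurj : Function.Surjective ev := by
    intro v
    rcases hirr ev.range (fun c hc a ha => by
      obtain ⟨x, rfl⟩ := ha
      exact ⟨⟨toEnd c, Subring.mem_centralizer_iff.2 (by
        rintro _ ⟨d, rfl⟩
        rw [← map_mul, ← map_mul, (hCcomm d d.2 c hc).eq])⟩ * x, rfl⟩) with e | e
    · exact absurd ((AddSubgroup.mem_bot).1 (e ▸ (⟨1, rfl⟩ : a₀ ∈ ev.range))) ha0
    · exact (e.symm ▸ AddSubgroup.mem_top v : v ∈ ev.range)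
  let evE : E ≃+ V := AddEquiv.ofBijective ev ⟨hinj, hsurj⟩
  cases nonempty_fintype E
  cases nonempty_fintype (GaloisField p (2 * r))
  let φ : E ≃+* GaloisField p (2 * r) := FiniteField.ringEquivOfCardEq (by
    rw [Fintype.card_eq_nat_card, Fintype.card_eq_nat_card, Nat.card_congr evE.toEquiv, hV,
      GaloisField.card p (2 * r) (by omega)])
  let ι : V ≃+ GaloisField p (2 * r) := evE.symm.trans φ.toAddEquiv
  have hι : ∀ x : E, ι (x.1 a₀) = φ x := fun x => congrArg φ (evE.symm_apply_apply x)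
  have hι0 : ι a₀ = 1 := (hι 1).trans φ.map_one
  have hmul : ∀ c ∈ C, ∀ v, ι (c • v) = ι (c • a₀) * ι v := by
    intro c hc v
    obtain ⟨x, rfl⟩ := hsurj v
    let y : E := ⟨toEnd c, Subring.mem_centralizer_iff.2 (by
      rintro _ ⟨d, rfl⟩
      rw [← map_mul, ← map_mul, (hCcomm d d.2 c hc).eq])⟩
    show ι ((y * x).1 a₀) = ι (y.1 a₀) * ι (x.1 a₀)
    rw [hι, hι, hι, map_mul]
  have hpow : ∀ c ∈ C, ∀ n : ℕ, ι (c ^ n • a₀) = ι (c • a₀) ^ n := by
    intro c hc n
    induction n with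
    | zero => rw [pow_zero, one_smul, pow_zero, hι0]
    | succ n ih => rw [pow_succ', mul_smul, hmul c hc, ih, pow_succ']
  have hcq : ∀ c ∈ C, c ^ (p ^ r + 1) = 1 := fun c hc => by
    rw [← hr, ← hCcard]
    exact congrArg Subtype.val (pow_card_eq_one' (x := (⟨c, hc⟩ : C)))
  have hnorm : ∀ c ∈ C, ι (c • a₀) ^ (p ^ r + 1) = 1 := fun c hc => by
    rw [← hpow c hc, hcq c hc, one_smul, hι0]
  have hfrob : ∀ v, ι (h • v) = ι v ^ p ^ r := by
    intro v
    let K : AddSubgroup V := AddMonoidHom.eqLocus (ι.toAddMonoidHom.comp (DistribSMul.toAddMonoidHom V h))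
      ((iterateFrobenius (GaloisField p (2 * r)) p r).toAddMonoidHom.comp ι.toAddMonoidHom)
    have hmem : ∀ w, w ∈ K ↔ ι (h • w) = ι w ^ p ^ r := fun w => by
      show (_ = iterateFrobenius _ p r _) ↔ _
      rw [iterateFrobenius_def]; rfl
    rcases hirr K (fun c hc a ha => by
      rw [hmem] at ha ⊢
      rw [← mul_smul, hCneg c hc, mul_smul, hmul _ (C.inv_mem hc), ha, hmul c hc, mul_pow, ← hpow c hc,
        show c⁻¹ = c ^ p ^ r from inv_eq_of_mul_eq_one_left (by rw [← pow_succ, hcq c hc])]) with e | e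
    · have : a₀ ∈ K := by rw [hmem, hha0, hι0, one_pow]
      rw [e, AddSubgroup.mem_bot] at this
      exact absurd this ha0
    · exact (hmem v).1 (e ▸ AddSubgroup.mem_top v)
  have hroots : ∀ a : GaloisField p (2 * r), a ^ (p ^ r + 1) = 1 → ∃ c ∈ C, ι (c • a₀) = a := by
    intro a ha
    cases nonempty_fintype C
    let A : Finset (GaloisField p (2 * r)) := Finset.univ.image fun c : C => ι ((c : H) • a₀)
    let B : Finset (GaloisField p (2 * r)) := Polynomial.nthRootsFinset (p ^ r + 1) (1 : GaloisField p (2 * r))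
    have hAB : A ⊆ B := by
      intro x hx
      simp only [A, Finset.mem_image, Finset.mem_univ, true_and] at hx
      obtain ⟨c, rfl⟩ := hx
      exact (Polynomial.mem_nthRootsFinset (Nat.succ_pos _) _).2 (hnorm c c.2)
    have hA : A.card = p ^ r + 1 := by
      rw [Finset.card_image_of_injective, Finset.card_univ, ← Nat.card_eq_fintype_card, hCcard, hr]
      intro c d hcd
      have h1 : ((d⁻¹ * c : C) : H) • a₀ = a₀ := by
        rw [Subgroup.coe_mul, mul_smul, ι.injective hcd, Subgroup.coe_inv, inv_smul_smul]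
      by_contra hne
      exact ha0 (hCfpf _ (d⁻¹ * c).2 (fun e => hne (inv_mul_eq_one.1 (Subtype.ext e)).symm) a₀ h1)
    have hB : B.card ≤ p ^ r + 1 := by
      show (Polynomial.nthRootsFinset _ _).card ≤ _
      rw [Polynomial.nthRootsFinset_def]
      exact (Multiset.toFinset_card_le _).trans (Polynomial.card_nthRoots _ _)
    have hmem : a ∈ B := (Polynomial.mem_nthRootsFinset (Nat.succ_pos _) _).2 ha
    rw [← Finset.eq_of_subset_of_card_le hAB (hA ▸ hB)] at hmem
    simp only [A, Finset.mem_image, Finset.mem_univ, true_and] at hmem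
    obtain ⟨c, hc⟩ := hmem
    exact ⟨c.1, c.2, hc⟩
  refine ⟨r, hr0, ι, fun g => ?_, fun a ha => ?_⟩
  · rcases hCcos g with hg | hg
    · exact ⟨ι (g • a₀), hnorm g hg, Or.inl fun v => hmul g hg v⟩
    · refine ⟨ι ((h * g) • a₀) ^ p ^ r, ?_, Or.inr fun v => ?_⟩
      · rw [← pow_mul, mul_comm (p ^ r), pow_mul, hnorm _ hg, one_pow]
      · rw [← mul_pow, ← hmul _ hg, ← hfrob, ← mul_smul, ← mul_assoc,
          show h * h = 1 from inv_eq_iff_mul_eq_one.1 (P.hh.inv hs.bin).2, one_mul]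
  · obtain ⟨c, hc, rfl⟩ := hroots a ha
    exact ⟨⟨c, hmul c hc⟩, ⟨c * h, fun v => by rw [mul_smul, hmul c hc, hfrob]⟩⟩

end Pair

end H48.BinAff
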