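import Cfsg.Agent.H48.BinAff.Odd

/-!
# Binary affine groups: reduction to a plane
-/

set_option autoImplicit false
set_option linter.unusedSectionVars false

namespace H48.BinAff

variable {H V : Type*} [Group H] [Finite H] [AddCommGroup V] [DistribMulAction H V] [FaithfulSMul H V] [Finite V]

variable {p : ℕ}

/-- If every cyclic subgroup is invariant, irreducibility forces prime order. -/
theorem card_eq_prime [Nontrivial V] (hs : Setup H V p) (hirr : Irr H V)
    (hinv : ∀ (a : V) (g : H), g • a = a ∨ g • a = -a) : Nat.card V = p := by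
  obtain ⟨a, ha⟩ := exists_ne (0 : V)
  haveI : Fact p.Prime := ⟨hs.prime⟩
  rcases hirr (AddSubgroup.zmultiples a) (fun g b hb => by
    rcases hinv b g with e | e
    · rwa [e]
    · rw [e]; exact AddSubgroup.neg_mem _ hb) with h0 | h0
  · exact absurd (AddSubgroup.zmultiples_eq_bot.1 h0) ha
  · rw [← addOrderOf_eq_prime (hs.exp a) ha, ← Nat.card_zmultiples, h0, AddSubgroup.card_top]

/-- A binary irreducible group has order at most two on a group of prime order, or is spanned by a pair. -/
theorem small_or_plane [Nontrivial V] (hs : Setup H V p) (hirr : Irr H V) :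
    (Nat.card V = p ∧ Nat.card H ≤ 2) ∨ ∃ h t : H, Pair V h t ∧ fix2 V h t = ⊥ := by
  classical
  cases nonempty_fintype H
  by_cases hH : ∃ g : H, g ≠ 1
  swap
  · push Not at hH
    refine Or.inl ⟨card_eq_prime hs hirr fun a g => Or.inl (by rw [hH g, one_smul]), ?_⟩
    haveI : Subsingleton H := ⟨fun a b => (hH a).trans (hH b).symm⟩
    exact Finite.card_le_one_iff_subsingleton.2 ‹_› |>.trans one_le_two
  obtain ⟨h, hh⟩ := exists_min (V := V) hH
  by_cases hK : fix (V := V) h = ⊥
  · left
    have hcard : Nat.card (im (V := V) h) = Nat.card V := by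
      rw [← card_im_mul_card_fix (V := V) h, hK, AddSubgroup.card_bot, mul_one]
    have htop : ∀ g : H, g ≠ 1 → im (V := V) g = ⊤ := fun g hg =>
      AddSubgroup.eq_top_of_le_card _ (hcard ▸ hh.2 g hg)
    have huniq : ∀ g : H, g = 1 ∨ g = h := by
      intro g
      refine or_iff_not_imp_left.2 fun hg => ?_
      have hgm : Min V g := hh.of_card_le hg (by
        rw [htop g hg, hcard]; exact le_of_eq AddSubgroup.card_top)
      obtain ⟨d, hd⟩ := exists_ne (0 : V)
      exact hgm.unique hs.bin hh hd (htop g hg ▸ AddSubgroup.mem_top d) (htop h hh.1 ▸ AddSubgroup.mem_top d)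
    refine ⟨card_eq_prime hs hirr fun a g => ?_, ?_⟩
    · rcases huniq g with rfl | rfl
      · exact Or.inl (one_smul H a)
      · exact Or.inr (hh.neg hs.bin (htop _ hh.1 ▸ AddSubgroup.mem_top a))
    · rw [Nat.card_eq_fintype_card]
      refine (Finset.card_le_card (show (Finset.univ : Finset H) ⊆ {1, h} from fun g _ => ?_)).trans Finset.card_le_two
      simpa using huniq g
  obtain ⟨h', t, P⟩ := exists_pair hs hirr hh hK
  refine Or.inr ⟨h', t, P, ?_⟩
  by_contra hL
  obtain ⟨v, x, hv, hx, hnc, hout⟩ := P.exists_outer hs hirr hL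
  obtain ⟨y, hy, hyx⟩ := P.exists_nc hs hx
  obtain ⟨P', hspan, -⟩ := P.sub_pair hs hy hx hyx
  rw [← hspan] at hout
  rcases hs.two_or_odd with he | ho
  · exact P'.no_outer_two hs he hv hnc hout
  · obtain ⟨_, _, _, F⟩ := P'.exists_frame hs ho hv hnc hout
    exact F.false hs ho

end H48.BinAff
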