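import Cfsg.Agent.H48.BinAff.Outer

/-!
# Binary affine groups: exponent two, the spread is everything
-/

set_option autoImplicit false
set_option linter.unusedSectionVars false

namespace H48.BinAff

variable {H V : Type*} [Group H] [Finite H] [AddCommGroup V] [DistribMulAction H V] [FaithfulSMul H V] [Finite V]

namespace Pair

variable {p : ℕ} {h t : H}

/-- Orbits meet the translates of a displacement by common fixed vectors at most once. -/
theorem no_fixed_shift (P : Pair V h t) (hs : Setup H V p) {g : H} {y z : V} (hy : y ∈ im h) (hy0 : y ≠ 0)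
    (hz : z ∈ fix2 V h t) (hz0 : z ≠ 0) : g • y ≠ y + z := by
  intro hg
  have hh1 : h • z = z := mem_fix.1 hz.1
  have ht1 : t • z = z := mem_fix.1 hz.2
  have hta := com_fix_conj hs.bin ht1 hg
  have hha : com hs.bin z • (h • (t • y - y)) = h • (t • y - y) := by
    have := com_fix_sub hs.bin (conj_sol hh1 (conj_sol ht1 hg)) (conj_sol hh1 hg)
    rwa [← smul_sub] at this
  have ha0 : t • y - y ≠ 0 := fun e =>
    hy0 (P.hh.im_inter_fix hs.bin P.symm.nc y hy (mem_fix.2 (sub_eq_zero.1 e)))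
  have hw0 : h • (t • y - y) - (t • y - y) ≠ 0 := fun e =>
    ha0 (P.ht.im_inter_fix hs.bin P.nc _ (smul_sub_mem_im t y) (mem_fix.2 (sub_eq_zero.1 e)))
  have hc : Commute (com hs.bin z) h :=
    P.hh.commute_of_fix hs.bin hw0 (smul_sub_mem_im h _) (by rw [smul_sub, hha, hta])
  have hey : com hs.bin z • y ∈ im h := by
    obtain ⟨x, hx⟩ := mem_im.1 hy
    exact mem_im.2 ⟨com hs.bin z • x, by rw [← mul_smul, ← hc.eq, mul_smul, hx, smul_add]⟩
  rw [com_spec hs.bin hg] at hey
  exact hz0 (P.span_inter_fix hs z (AddSubgroup.mem_sup_left (by simpa using AddSubgroup.sub_mem _ hey hy)) hz)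

/-- A member of a spread fails to commute with some other member. -/
theorem exists_nc (P : Pair V h t) (hs : Setup H V p) {x : H} (hx : Mem V h t x) :
    ∃ y, Mem V h t y ∧ ¬ Commute y x := by
  by_contra hc
  push Not at hc
  have h1 := hc h P.mem_left
  have h2 := hc t P.mem_right
  have hxh : x ≠ h := fun e => P.nc (e ▸ h2).symm
  have hxt : x ≠ t := fun e => P.nc (e ▸ h1)
  refine hx.1.1 (eq_one_of_fix_top (V := V) fun v => ?_)
  obtain ⟨a, ha, l, hl, rfl⟩ := P.exists_add hs v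
  refine mem_fix.1 ((fix (V := V) x).add_mem ?_ (hx.2.1 hl))
  exact (sup_le (hx.1.im_le_fix hs.bin P.hh hxh h1.symm) (hx.1.im_le_fix hs.bin P.ht hxt h2.symm)) ha

/-- In exponent two distinct members of a spread do not commute. -/
theorem nc_of_ne (P : Pair V h t) (hs : Setup H V p) (he : ∀ x : V, x + x = 0) {x y : H} (hx : Mem V h t x)
    (hy : Mem V h t y) (hne : x ≠ y) : ¬ Commute x y := by
  intro hc
  refine hy.1.1 (eq_one_of_fix_top (V := V) fun v => ?_)
  obtain ⟨a, ha, l, hl, rfl⟩ := P.exists_add hs v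
  refine mem_fix.1 ((fix (V := V) y).add_mem ?_ (hy.2.1 hl))
  have e : im (V := V) x ⊔ im y = span2 V h t := AddSubgroup.eq_of_le_of_card_ge (sup_le hx.2.2 hy.2.2)
    (le_of_eq (by rw [P.card_span hs, card_sup (hx.1.disjoint hs.bin hy.1 hne), hx.1.card_im_eq P.hh,
      hy.1.card_im_eq P.hh]))
  rw [← e] at ha
  refine sup_le (hy.1.im_le_fix hs.bin hx.1 hne.symm hc.symm) (fun w hw => ?_) ha
  rw [mem_fix, hy.1.neg hs.bin hw, neg_eq_iff_add_eq_zero]; exact he w

/-- A proper spread in exponent two has no member linked outside. -/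
theorem no_outer_two (P : Pair V h t) (hs : Setup H V p) (he : ∀ x : V, x + x = 0) {v : H} (hv : Min V v)
    (hnc : ¬ Commute v t) (hout : ¬ im (V := V) v ≤ span2 V h t) : False := by
  classical
  have hneg : ∀ {g : H}, Min V g → im (V := V) g ≤ fix g := fun hg w hw => by
    rw [mem_fix, hg.neg hs.bin hw, neg_eq_iff_add_eq_zero]; exact he w
  have hq : 1 < Nat.card (im (V := V) h) := one_lt_card_im P.hh.1
  have hDv : ∀ a ∈ span2 V h t, a ∈ im v → a = 0 := by
    intro a ha hav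
    by_contra ha0
    obtain ⟨u, hu, hau⟩ := P.cover hs ha ha0
    exact hout (hv.unique hs.bin hu.1 ha0 hav hau ▸ hu.2.2)
  let Y := span2 V h t ⊔ im v
  have hY : Nat.card Y = Nat.card (im (V := V) h) * Nat.card (im (V := V) h) * Nat.card (im (V := V) h) := by
    rw [card_sup hDv, P.card_span hs, hv.card_im_eq P.hh]
  let S := fix t ⊓ Y
  have htS : im (V := V) t ≤ S := le_inf (hneg P.ht) (le_sup_of_le_left le_sup_right)
  have hmemD : ∀ {x : H}, Mem V h t x → im (V := V) x ≤ Y := fun hx => hx.2.2.trans le_sup_left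
  have hdisj : ∀ {x : H}, Mem V h t x → x ≠ t → ∀ a ∈ im (V := V) x, a ∈ S → a = 0 := fun hx hne a ha haS =>
    hx.1.im_inter_fix hs.bin (fun c => P.nc_of_ne hs he hx P.mem_right hne c.symm) a ha haS.1
  have hSle : Nat.card S ≤ Nat.card (im (V := V) h) * Nat.card (im (V := V) h) := by
    have h1 := card_mul_card_le (A := im h) (B := S) (C := Y) (hmemD P.mem_left) inf_le_right
      (hdisj P.mem_left P.ne)
    rw [hY, mul_assoc] at h1
    exact Nat.le_of_mul_le_mul_left h1 Nat.card_pos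
  have hSge : Nat.card (im (V := V) h) * Nat.card (im (V := V) h) ≤ Nat.card S := by
    let f : Y →+ V := (disp t).comp Y.subtype
    have h1 := AddSubgroup.card_mul_index f.ker
    rw [AddSubgroup.index_ker, hY] at h1
    have h2 : Nat.card f.ker ≤ Nat.card S :=
      Nat.card_le_card_of_injective (fun a => ⟨a.1.1, (a.2 : disp t a.1.1 = 0), a.1.2⟩)
        (fun a b hab => Subtype.ext (Subtype.ext (show a.1.1 = b.1.1 from congrArg (fun z : S => (z : V)) hab)))
    have h3 : Nat.card f.range ≤ Nat.card (im (V := V) h) :=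
      (AddSubgroup.card_le_of_le (show f.range ≤ im t by rintro _ ⟨a, rfl⟩; exact ⟨a.1, rfl⟩)).trans_eq
        (P.ht.card_im_eq P.hh)
    refine Nat.le_of_mul_le_mul_right ?_ (Nat.card_pos (α := im (V := V) h))
    rw [← h1]
    exact Nat.mul_le_mul h2 h3
  -- members linked to `v` give members commuting with `t`
  have hw : ∀ x : H, Mem V h t x → x ≠ t → ¬ Commute x v →
      ∃ w : H, Mem V x v w ∧ Commute t w ∧ w ≠ t ∧ im (V := V) w ≤ S := by
    intro x hx hxt hxv
    have P' : Pair V x v := ⟨hx.1, hv, hxv⟩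
    have hle : span2 V x v ≤ Y := sup_le (hmemD hx) le_sup_right
    obtain ⟨a, ha, haS, ha0⟩ : ∃ a ∈ span2 V x v, a ∈ S ∧ a ≠ 0 := by
      by_contra hc
      push Not at hc
      have h1 := (Nat.mul_le_mul (P'.card_span hs).ge hSge).trans (card_mul_card_le hle inf_le_right hc)
      rw [hY, hx.1.card_im_eq P.hh] at h1
      have := Nat.le_of_mul_le_mul_left h1 (Nat.mul_pos Nat.card_pos Nat.card_pos)
      nlinarith
    obtain ⟨w, hw, haw⟩ := P'.cover hs ha ha0
    have hc : Commute t w := hw.1.commute_of_fix hs.bin ha0 haw (mem_fix.1 haS.1)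
    have hwt : w ≠ t := by
      rintro rfl
      refine hout ?_
      have e : span2 V h w = span2 V x v := by
        have e1 := (P.sub_pair hs hx P.mem_right (P.nc_of_ne hs he hx P.mem_right hxt)).2.1
        rw [← e1]
        exact AddSubgroup.eq_of_le_of_card_ge (sup_le le_sup_left hw.2.2)
          (le_of_eq (by rw [P'.card_span hs, Pair.card_span ⟨hx.1, P.ht, P.nc_of_ne hs he hx P.mem_right hxt⟩ hs]))
      exact e ▸ le_sup_right
    exact ⟨w, hw, hc, hwt, le_inf (P.ht.im_le_fix hs.bin hw.1 hwt.symm hc) (hw.2.2.trans hle)⟩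
  choose! f hf using hw
  have hSfix : ∀ {x : H}, Mem V h t x → x ≠ t → ¬ Commute x v → S ≤ fix (f x) := by
    intro x h1 h2 h3
    obtain ⟨hw, hc, hne, hle⟩ := hf x h1 h2 h3
    have e : im (V := V) t ⊔ im (f x) = S := AddSubgroup.eq_of_le_of_card_ge (sup_le htS hle)
      (by rw [card_sup (P.ht.disjoint hs.bin hw.1 hne.symm), P.ht.card_im_eq P.hh, hw.1.card_im_eq P.hh]
          exact hSle)
    rw [← e]
    exact sup_le (hw.1.im_le_fix hs.bin P.ht hne hc.symm) (hneg hw.1)
  have hfnc : ∀ {x : H}, Mem V h t x → x ≠ t → ¬ Commute x v → ¬ Commute h (f x) := by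
    intro x h1 h2 h3 hc
    obtain ⟨hw, hct, hne, hle⟩ := hf x h1 h2 h3
    have P' : Pair V x v := ⟨h1.1, hv, h3⟩
    have hwh : f x ≠ h := fun e => P.nc (e ▸ hct).symm
    have hfY : Y ≤ fix (f x) := by
      have e : im (V := V) h ⊔ S = Y := AddSubgroup.eq_of_le_of_card_ge (sup_le (hmemD P.mem_left) inf_le_right)
        (by rw [card_sup (hdisj P.mem_left P.ne), hY, mul_assoc]; exact Nat.mul_le_mul_left _ hSge)
      rw [← e]
      exact sup_le (hw.1.im_le_fix hs.bin P.hh hwh hc.symm) (hSfix h1 h2 h3)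
    have hxw : f x ≠ x := fun e => P.nc_of_ne hs he h1 P.mem_right h2 (e ▸ hct).symm
    obtain ⟨a, ha⟩ := (Finite.one_lt_card_iff_nontrivial.1 (one_lt_card_im (V := V) h1.1.1)).exists_pair_ne
    obtain ⟨b, hab⟩ := ha
    have hz : ∀ c ∈ im (V := V) x, c = 0 := fun c hc' =>
      h1.1.im_inter_fix hs.bin (P'.nc_of_ne hs he hw P'.mem_left hxw) c hc' (hfY (hmemD h1 hc'))
    exact hab (Subtype.ext ((hz _ a.2).trans (hz _ b.2).symm))
  -- the index set
  cases nonempty_fintype H
  let I : Finset H := Finset.univ.filter fun x => Mem V h t x ∧ x ≠ t ∧ ¬ Commute x v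
  have hI : Nat.card (im (V := V) h) - 1 ≤ I.card := by
    let A : Finset H := Finset.univ.filter fun x => Mem V h t x
    let B : Finset H := Finset.univ.filter fun x => Mem V h t x ∧ Commute x v
    have hA : A.card = Nat.card (im (V := V) h) + 1 := by
      rw [← P.card_mem hs, Nat.card_eq_fintype_card, Fintype.card_subtype]
    have hB : B.card ≤ 1 := by
      refine Finset.card_le_one.2 fun a ha b hb' => ?_
      simp only [B, Finset.mem_filter, Finset.mem_univ, true_and] at ha hb'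
      by_contra hne
      obtain ⟨-, -, e2⟩ := P.sub_pair hs ha.1 hb'.1 (P.nc_of_ne hs he ha.1 hb'.1 hne)
      have hva : ∀ {c : H}, Mem V h t c → Commute c v → im (V := V) v ≤ fix c := fun hc hcv =>
        hc.1.im_le_fix hs.bin hv (fun e => hout (e ▸ hc.2.2)) hcv
      obtain ⟨x, hx⟩ := (Finite.one_lt_card_iff_nontrivial.1 (one_lt_card_im (V := V) hv.1)).exists_pair_ne
      obtain ⟨y, hxy⟩ := hx
      have hz : ∀ c ∈ im (V := V) v, c = 0 := fun c hc' => by
        have := e2.le (show c ∈ fix2 V a b from ⟨hva ha.1 ha.2 hc', hva hb'.1 hb'.2 hc'⟩)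
        exact hv.im_inter_fix hs.bin (fun cc => hnc cc.symm) c hc' this.2
      exact hxy (Subtype.ext ((hz _ x.2).trans (hz _ y.2).symm))
    have hsub : A ⊆ I ∪ B ∪ {t} := by
      intro x hx
      simp only [A, Finset.mem_filter, Finset.mem_univ, true_and] at hx
      simp only [I, B, Finset.mem_union, Finset.mem_filter, Finset.mem_univ, true_and, Finset.mem_singleton]
      tauto
    have := (Finset.card_le_card hsub).trans ((Finset.card_union_le _ _).trans
      (Nat.add_le_add_right (Finset.card_union_le _ _) _))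
    rw [Finset.card_singleton] at this
    omega
  let T : Finset H := insert t (I.image f)
  have hinj : Set.InjOn f (I : Set H) := by
    intro a ha b hb' hab
    simp only [I, Finset.coe_filter, Finset.mem_univ, true_and, Set.mem_ofPred_eq] at ha hb'
    by_contra hne
    obtain ⟨hwa, hca, hnta, -⟩ := hf a ha.1 ha.2.1 ha.2.2
    obtain ⟨hwb, -, -, -⟩ := hf b hb'.1 hb'.2.1 hb'.2.2
    have hwv : f a ≠ v := fun e => hnc (e ▸ hca).symm
    have hgen : ∀ {c : H}, Mem V h t c → ¬ Commute c v → Mem V c v (f a) → span2 V c v = im (f a) ⊔ im v := by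
      intro c hc hcv hm
      have Pc : Pair V c v := ⟨hc.1, hv, hcv⟩
      exact (AddSubgroup.eq_of_le_of_card_ge (sup_le hm.2.2 le_sup_right) (le_of_eq (by
        rw [Pc.card_span hs, card_sup (hm.1.disjoint hs.bin hv hwv), hm.1.card_im_eq hc.1, hv.card_im_eq hc.1]))).symm
    have e1 := (hgen ha.1 ha.2.2 hwa).trans (hgen hb'.1 hb'.2.2 (hab ▸ hwb)).symm
    have e2 := (P.sub_pair hs ha.1 hb'.1 (P.nc_of_ne hs he ha.1 hb'.1 hne)).2.1
    have : span2 V h t = span2 V a v := by
      rw [← e2]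
      exact AddSubgroup.eq_of_le_of_card_ge (sup_le le_sup_left (e1 ▸ le_sup_left))
        (le_of_eq (by rw [Pair.card_span ⟨ha.1.1, hv, ha.2.2⟩ hs,
          Pair.card_span ⟨ha.1.1, hb'.1.1, P.nc_of_ne hs he ha.1 hb'.1 hne⟩ hs]))
    exact hout (this ▸ le_sup_right)
  have hT : Nat.card (im (V := V) h) ≤ T.card := by
    have hnot : t ∉ I.image f := by
      simp only [Finset.mem_image, not_exists, not_and]
      intro x hx
      simp only [I, Finset.mem_filter, Finset.mem_univ, true_and] at hx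
      exact (hf x hx.1 hx.2.1 hx.2.2).2.2.1
    rw [Finset.card_insert_of_notMem hnot, Finset.card_image_of_injOn hinj]
    omega
  have hTp : ∀ x ∈ T, Min V x ∧ S ≤ fix x ∧ ¬ Commute h x ∧ im (V := V) x ≤ S := by
    intro x hx
    simp only [T, Finset.mem_insert, Finset.mem_image, I, Finset.mem_filter, Finset.mem_univ, true_and] at hx
    rcases hx with rfl | ⟨a, ha, rfl⟩
    · exact ⟨P.ht, inf_le_left, P.nc, htS⟩
    · exact ⟨(hf a ha.1 ha.2.1 ha.2.2).1.1, hSfix ha.1 ha.2.1 ha.2.2, hfnc ha.1 ha.2.1 ha.2.2,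
        (hf a ha.1 ha.2.1 ha.2.2).2.2.2⟩
  -- collision
  obtain ⟨y, hy, hy0⟩ : ∃ y ∈ im (V := V) h, y ≠ 0 := by
    obtain ⟨a, b, hab⟩ := (Finite.one_lt_card_iff_nontrivial.1 hq).exists_pair_ne
    by_cases e : (a : V) = 0
    · exact ⟨b.1, b.2, fun e' => hab (Subtype.ext (e.trans e'.symm))⟩
    · exact ⟨a.1, a.2, e⟩
  have hval : ∀ x ∈ T, x • y - y ≠ 0 ∧ h • (x • y - y) - (x • y - y) ≠ 0 := by
    intro x hx
    obtain ⟨hm, hfx, hn, -⟩ := hTp x hx
    have h1 : x • y - y ≠ 0 := fun e =>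
      hy0 (P.hh.im_inter_fix hs.bin (fun c => hn c.symm) y hy (mem_fix.2 (sub_eq_zero.1 e)))
    exact ⟨h1, fun e => h1 (hm.im_inter_fix hs.bin hn _ (smul_sub_mem_im x y) (mem_fix.2 (sub_eq_zero.1 e)))⟩
  let φ : T → {d : im (V := V) h // d ≠ 0} := fun x =>
    ⟨⟨h • (x.1 • y - y) - (x.1 • y - y), smul_sub_mem_im h _⟩, fun e => (hval x.1 x.2).2 (congrArg Subtype.val e)⟩
  have hni : ¬ Function.Injective φ := by
    intro hφ
    have := Nat.card_le_card_of_injective φ hφ
    rw [card_ne_zero, Nat.card_eq_finsetCard] at this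
    omega
  rw [Function.Injective] at hni
  push Not at hni
  obtain ⟨⟨x₁, hx₁⟩, ⟨x₂, hx₂⟩, he12, hne⟩ := hni
  simp only [φ, Subtype.mk.injEq] at he12
  obtain ⟨hm1, -, -, hi1⟩ := hTp x₁ hx₁
  obtain ⟨hm2, hf2, hn2, hi2⟩ := hTp x₂ hx₂
  let z := (x₁ • y - y) - (x₂ • y - y)
  have hzh : h • z = z := by
    show h • ((x₁ • y - y) - (x₂ • y - y)) = (x₁ • y - y) - (x₂ • y - y)
    generalize x₁ • y - y = A at he12 ⊢
    generalize x₂ • y - y = B at he12 ⊢
    rw [smul_sub, sub_eq_sub_iff_sub_eq_sub, he12]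
  have hz2 : x₂ • z = z :=
    mem_fix.1 (hf2 (S.sub_mem (hi1 (smul_sub_mem_im x₁ y)) (hi2 (smul_sub_mem_im x₂ y))))
  have hz0 : z ≠ 0 := by
    intro e
    refine (hval x₁ hx₁).1 (hm1.disjoint hs.bin hm2 (fun e' => hne (Subtype.ext e')) _ (smul_sub_mem_im x₁ y) ?_)
    rw [sub_eq_zero.1 e]; exact smul_sub_mem_im x₂ y
  have P2 : Pair V (x₂ * h * x₂⁻¹) x₂ := by
    refine ⟨P.hh.conj x₂, hm2, fun c => hn2 ?_⟩
    have c' : (x₂ * h * x₂⁻¹) * x₂ = x₂ * (x₂ * h * x₂⁻¹) := c
    rw [inv_mul_cancel_right] at c'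
    have c'' := mul_left_cancel c'
    show h * x₂ = x₂ * h
    nth_rewrite 1 [c'']
    rw [inv_mul_cancel_right]
  refine P2.no_fixed_shift hs (g := x₁ * x₂⁻¹) (mem_im_conj hy) (fun e => hy0 ((smul_eq_zero_iff_eq _).1 e))
    ⟨?_, mem_fix.2 hz2⟩ hz0 ?_
  · show z ∈ fix (V := V) (x₂ * h * x₂⁻¹)
    rw [mem_fix, mul_smul, mul_smul, show x₂⁻¹ • z = z by rw [inv_smul_eq_iff, hz2], hzh, hz2]
  · rw [mul_smul, inv_smul_smul]
    simp only [z]; abel

end Pair

end H48.BinAff
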